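import Cfsg.Agent.H59.PSLSeven.Elementary
import Cfsg.Agent.H69.Small4.Reduce
import Cfsg.Agent.H28.CyclicSylow
import Cfsg.Agent.H6.Basic
import Cfsg.Agent.S1230
import Cfsg.Agent.S0811
import Cfsg.Agent.S0812

/-!
# Five automorphism orbits: every element of even order is an involution
-/

set_option autoImplicit false
set_option linter.style.haveILetI false

namespace Cfsg.Agent.H59.FiveOrbits

open Subgroup PSLSeven

local instance factTwoCaseEven : Fact (Nat.Prime 2) := ⟨Nat.prime_two⟩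

variable {G : Type*} [Group G] [Finite G]

theorem case_even [IsSimpleGroup G] (hG : ¬ IsMulCommutative G) (heven : Even (Nat.card G))
    (h2 : ∀ g : G, 2 ∣ orderOf g → orderOf g = 2) {O : Finset ℕ}
    (hO : ∀ n, n ∈ O ↔ n ≠ 1 ∧ ∃ g : G, orderOf g = n) (hO4 : O.card ≤ 4) :
    ∃ (F : Type) (_ : Field F) (_ : Fintype F), (Fintype.card F = 4 ∨ Fintype.card F = 8) ∧
      Nonempty (G ≃* Matrix.ProjectiveSpecialLinearGroup (Fin 2) F) := by
  classical
  have hnc : ¬ IsCyclic G := fun hc => hG ⟨⟨fun a b => by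
    letI := hc.commGroup
    exact mul_comm a b⟩⟩
  obtain ⟨T⟩ : Nonempty (Sylow 2 G) := inferInstance
  have hTnc : ¬ IsCyclic (T : Subgroup G) := fun hc => by
    obtain ⟨H, hH⟩ := H28.exists_index_two_of_cyclic_sylow heven T hc
    exact H69.Small4.simple_no_index_two hnc H hH
  have hsq : ∀ {t : G}, orderOf t = 2 → ∀ c ∈ centralizer ({t} : Set G), c * c = 1 := by
    intro t ht c hc
    rcases eq_or_ne c 1 with rfl | hc1
    · exact one_mul 1
    rcases Nat.even_or_odd (orderOf c) with he | ho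
    · exact (sq_of_orderOf_two (h2 c (even_iff_two_dvd.1 he))).1
    · exfalso
      have hcm : Commute t c := (mem_centralizer_singleton_iff.1 hc).symm
      have hm := hcm.orderOf_mul_eq_mul_orderOf_of_coprime (ht ▸ Nat.coprime_two_left.2 ho)
      rw [ht] at hm
      have := h2 (t * c) (hm ▸ dvd_mul_right 2 _)
      exact hc1 (orderOf_eq_one_iff.1 (by omega))
  have hC : ∀ t : G, orderOf t = 2 → IsMulCommutative (centralizer ({t} : Set G)) ∧
      ∀ c ∈ centralizer ({t} : Set G), c ^ 2 = 1 := fun t ht =>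
    ⟨⟨⟨fun a b => Subtype.ext (commute_of_sq (hsq ht a a.2) (hsq ht b b.2)
      (hsq ht _ (mul_mem a.2 b.2))).eq⟩⟩, fun c hc => by rw [pow_two]; exact hsq ht c hc⟩
  obtain ⟨t, htT, ht⟩ : ∃ t ∈ (T : Subgroup G), orderOf t = 2 :=
    H86.AllPrimePowerOrder.exists_orderOf_eq T.2 fun e => hTnc (by rw [e]; infer_instance)
  have hnn : ¬ (T : Subgroup G).Normal := fun hn => by
    rcases hn.eq_bot_or_eq_top with e | e
    · exact (sq_of_orderOf_two ht).2 (mem_bot.1 (e ▸ htT))
    · refine hG ⟨⟨fun a b => ?_⟩⟩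
      have hsqT : ∀ x : G, x * x = 1 := fun x => by
        have hx : x ∈ (T : Subgroup G) := e ▸ mem_top x
        rcases eq_or_ne x 1 with rfl | hx1
        · exact one_mul 1
        obtain ⟨k, hk⟩ := IsPGroup.iff_orderOf.1 T.2 ⟨x, hx⟩
        rw [orderOf_mk] at hk
        rcases k with _ | k
        · exact absurd (orderOf_eq_one_iff.1 (by simpa using hk)) hx1
        · exact (sq_of_orderOf_two (h2 x (hk ▸ dvd_pow_self 2 k.succ_ne_zero))).1
      exact (commute_of_sq (hsqT a) (hsqT b) (hsqT _)).eq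
  obtain ⟨F, iF, iFt, hFc, ⟨e⟩⟩ := S1230.result T hTnc hnn hC
  refine ⟨F, iF, iFt, ?_, ⟨e⟩⟩
  obtain ⟨k, hk⟩ := IsPGroup.iff_card.1 T.2
  set q := Fintype.card F with hq
  have hqk : q = 2 ^ k := hFc.trans hk
  have hk2 : 2 ≤ k := by
    by_contra hk'
    refine hTnc ?_
    rcases k with _ | _ | k
    · rw [Subgroup.card_eq_one.1 (show Nat.card (T : Subgroup G) = 1 by simpa using hk)]
      infer_instance
    · exact isCyclic_of_prime_card (p := 2) (by simpa using hk)
    · omega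
  by_cases hq4 : q = 4
  · exact Or.inl hq4
  have hev : q % 2 = 0 := by
    rw [hqk, show k = k - 1 + 1 by omega, pow_succ]; omega
  have hev4 : q % 4 = 0 := by
    rw [hqk, show k = k - 2 + 2 by omega, pow_add]; omega
  have h8 : 8 ≤ q := by
    rcases (show k = 2 ∨ 3 ≤ k by omega) with rfl | h3
    · exact absurd (hqk.trans (by norm_num)) hq4
    · rw [hqk]; exact (Nat.pow_le_pow_right two_pos h3).trans_eq' (by norm_num)
  have hg : Nat.gcd 2 (q - 1) = 1 :=
    Nat.coprime_two_left.2 (Nat.odd_iff.2 (by omega))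
  have hn : ∀ {d : ℕ}, (∃ g : Matrix.ProjectiveSpecialLinearGroup (Fin 2) F, orderOf g = d) →
      ∀ m, m ∣ d → m ≠ 1 → d ≠ 0 → m ∈ O := by
    rintro d ⟨g, hgd⟩ m hm hm1 hd0
    refine (hO m).2 ⟨hm1, (e.symm g) ^ (d / m), ?_⟩
    have ho : orderOf (e.symm g) = d := (MulEquiv.orderOf_eq e.symm g).trans hgd
    obtain ⟨c, rfl⟩ := hm
    have hm0 : m ≠ 0 := fun z => hd0 (by rw [z, zero_mul])
    have hc0 : c ≠ 0 := fun z => hd0 (by rw [z, mul_zero])
    rw [Nat.mul_div_cancel_left _ (Nat.pos_of_ne_zero hm0),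
      orderOf_pow_of_dvd hc0 (ho ▸ dvd_mul_left c m), ho,
      Nat.mul_div_cancel _ (Nat.pos_of_ne_zero hc0)]
  obtain ⟨H1, -, ⟨eH1⟩⟩ := S0811.result (F := F) rfl
    (by simp only [Finset.mem_insert, Finset.mem_singleton]; omega)
  obtain ⟨H2, -, ⟨eH2⟩⟩ := S0812.result (F := F) rfl
    (by simp only [Finset.mem_insert, Finset.mem_singleton]; omega)
  rw [← hq, hg, Nat.div_one] at eH1 eH2
  have o1 := hn ⟨(eH1.symm (DihedralGroup.r 1) : Matrix.ProjectiveSpecialLinearGroup (Fin 2) F),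
    by rw [Subgroup.orderOf_coe, MulEquiv.orderOf_eq, DihedralGroup.orderOf_r_one]⟩
  have o2 := hn ⟨(eH2.symm (DihedralGroup.r 1) : Matrix.ProjectiveSpecialLinearGroup (Fin 2) F),
    by rw [Subgroup.orderOf_coe, MulEquiv.orderOf_eq, DihedralGroup.orderOf_r_one]⟩
  have h2O : 2 ∈ O := (hO 2).2 ⟨by norm_num, t, ht⟩
  have h3 : 3 ∣ q - 1 ∨ 3 ∣ q + 1 := by
    have h3q : ¬ 3 ∣ q := fun hd => by
      rw [hqk] at hd
      exact absurd ((Nat.prime_dvd_prime_iff_eq Nat.prime_three Nat.prime_two).1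
        (Nat.prime_three.dvd_of_dvd_pow hd)) (by norm_num)
    rcases (show q % 3 = 0 ∨ q % 3 = 1 ∨ q % 3 = 2 by omega) with e' | e' | e'
    · exact absurd (Nat.dvd_of_mod_eq_zero e') h3q
    · exact Or.inl (Nat.dvd_of_mod_eq_zero (by omega))
    · exact Or.inr (Nat.dvd_of_mod_eq_zero (by omega))
  have key : ∀ m n : ℕ, (∀ d, d ∣ m → d ≠ 1 → d ∈ O) → n ∈ O → 3 ∣ m → m % 2 = 1 →
      n % 2 = 1 → n ≠ 1 → (∀ d, d ∣ m → d ∣ n → d = 1) → m ≠ 0 → m = 3 ∨ m = 9 := by
    intro m n hm hnO h3m hmo hno hn1 hcop hm0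
    by_contra hc
    push Not at hc
    obtain ⟨c, hc'⟩ := h3m
    have hco : c % 2 = 1 := by
      rcases Nat.even_or_odd c with ⟨j, hj⟩ | ho
      · omega
      · exact Nat.odd_iff.1 ho
    have hsub : ({2, 3, m, c, n} : Finset ℕ) ⊆ O := by
      intro d hd
      simp only [Finset.mem_insert, Finset.mem_singleton] at hd
      rcases hd with rfl | rfl | rfl | rfl | rfl
      · exact h2O
      · exact hm 3 ⟨c, hc'⟩ (by norm_num)
      · exact hm _ dvd_rfl (by omega)
      · exact hm _ ⟨3, by omega⟩ (by omega)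
      · exact hnO
    have hn3 : n ≠ 3 := fun e' => by have := hcop 3 ⟨c, hc'⟩ (e' ▸ dvd_rfl); omega
    have hnm : n ≠ m := fun e' => hn1 (hcop n (e' ▸ dvd_rfl) dvd_rfl)
    have hnc' : n ≠ c := fun e' => hn1 (hcop n ⟨3, by omega⟩ dvd_rfl)
    have h5 : ({2, 3, m, c, n} : Finset ℕ).card = 5 := by
      rw [Finset.card_insert_of_notMem, Finset.card_insert_of_notMem, Finset.card_insert_of_notMem,
        Finset.card_insert_of_notMem, Finset.card_singleton]
      all_goals simp only [Finset.mem_insert, Finset.mem_singleton]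
      all_goals omega
    have := Finset.card_le_card hsub
    omega
  have hcop : ∀ d, d ∣ q - 1 → d ∣ q + 1 → d = 1 := by
    intro d h1 h1'
    have h := Nat.dvd_sub h1' h1
    rw [show q + 1 - (q - 1) = 2 by omega] at h
    rcases (Nat.dvd_prime Nat.prime_two).1 h with e' | rfl
    · exact e'
    · omega
  rcases h3 with h3 | h3
  · rcases key (q - 1) (q + 1) (fun d hd hd1 => o2 d hd hd1 (by omega))
      (o1 _ dvd_rfl (by omega) (by omega)) h3 (by omega) (by omega) (by omega) hcop (by omega) with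
      h' | h' <;> omega
  · rcases key (q + 1) (q - 1) (fun d hd hd1 => o1 d hd hd1 (by omega))
      (o2 _ dvd_rfl (by omega) (by omega)) h3 (by omega) (by omega) (by omega)
      (fun d a b => hcop d b a) (by omega) with h' | h' <;> omega

end Cfsg.Agent.H59.FiveOrbits
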