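import Cfsg.Agent.H59.PSLSeven.Main
import Cfsg.Agent.H59.FiveOrbits.Orders
import Cfsg.Agent.S3433
import Cfsg.Agent.H31.PSLRingEquiv

/-!
# Five automorphism orbits: orders powers of two and primes
-/

set_option autoImplicit false
set_option linter.style.haveILetI false

universe u

namespace Cfsg.Agent.H59.FiveOrbits

open Subgroup PSLSeven

local instance factTwoCaseFour : Fact (Nat.Prime 2) := ⟨Nat.prime_two⟩

theorem false_of_suzuki {G : Type*} [Group G] [Finite G] (h : Cfsg.IsSuzuki G) :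
    4 ≤ (Nat.card G).primeFactors.card := by
  obtain ⟨-, m, hm1, hm⟩ := h
  set s := 2 ^ (m + 1) with hs
  have hs4 : 4 ≤ s := (Nat.pow_le_pow_right two_pos (show 2 ≤ m + 1 by omega)).trans_eq' (by norm_num)
  have h2q : s * s = 2 * 2 ^ (2 * m + 1) := by
    rw [hs, ← pow_add, ← pow_succ']; congr 1; omega
  set q := 2 ^ (2 * m + 1) with hq
  have hlt : 2 * s ≤ 2 * q := by rw [← h2q]; nlinarith
  have hlt' : s < q := by nlinarith
  have hqe : q % 2 = 0 := by rw [hq, pow_succ]; omega
  have hse : s % 2 = 0 := by rw [hs, pow_succ]; omega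
  obtain ⟨d, hd⟩ : ∃ d, q = s + d := ⟨q - s, by omega⟩
  have hAB : q ^ 2 + 1 = (q + s + 1) * (d + 1) := by
    rw [hd] at h2q ⊢
    nlinarith [h2q]
  have hd0 : 0 < d := by omega
  obtain ⟨a, ha, ha'⟩ := Nat.exists_prime_and_dvd (n := q + s + 1) (by omega)
  obtain ⟨b, hb, hb'⟩ := Nat.exists_prime_and_dvd (n := d + 1) (by omega)
  obtain ⟨c, hc, hc'⟩ := Nat.exists_prime_and_dvd (n := q - 1) (by omega)
  have hA : a ∣ q ^ 2 + 1 := hAB ▸ ha'.mul_right _
  have hB : b ∣ q ^ 2 + 1 := hAB ▸ hb'.mul_left _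
  have ha2 : a ≠ 2 := by rintro rfl; omega
  have hb2 : b ≠ 2 := by rintro rfl; omega
  have hc2 : c ≠ 2 := by rintro rfl; omega
  have hac : ∀ {r : ℕ}, r.Prime → r ≠ 2 → r ∣ q ^ 2 + 1 → ¬ r ∣ q - 1 := by
    intro r hr hr2 h1 h2
    have h3 : r ∣ q ^ 2 - 1 := by
      rw [show q ^ 2 - 1 = (q + 1) * (q - 1) by
        rw [← Nat.sq_sub_sq, one_pow]]
      exact h2.mul_left _
    have h4 := Nat.dvd_sub h1 h3
    have h5 : 1 ≤ q ^ 2 := Nat.one_le_pow _ _ (by omega)
    rw [show q ^ 2 + 1 - (q ^ 2 - 1) = 2 by omega] at h4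
    exact hr2 ((Nat.prime_dvd_prime_iff_eq hr Nat.prime_two).1 h4)
  have hab : a ≠ b := by
    rintro rfl
    have h4 := Nat.dvd_sub ha' hb'
    rw [show q + s + 1 - (d + 1) = 2 * s by omega, hs, ← pow_succ'] at h4
    exact ha2 ((Nat.prime_dvd_prime_iff_eq ha Nat.prime_two).1 (ha.dvd_of_dvd_pow h4))
  have hne : Nat.card G ≠ 0 := Nat.card_pos.ne'
  have hsub : ({2, a, b, c} : Finset ℕ) ⊆ (Nat.card G).primeFactors := by
    intro r hr
    simp only [Finset.mem_insert, Finset.mem_singleton] at hr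
    rw [Nat.mem_primeFactors, hm]
    rcases hr with rfl | rfl | rfl | rfl
    · exact ⟨Nat.prime_two, ((dvd_pow (dvd_pow_self 2 (by omega)) two_ne_zero).mul_right _).mul_right _,
        hm ▸ hne⟩
    · exact ⟨ha, (hA.mul_left _).mul_right _, hm ▸ hne⟩
    · exact ⟨hb, (hB.mul_left _).mul_right _, hm ▸ hne⟩
    · exact ⟨hc, hc'.mul_left _, hm ▸ hne⟩
  refine le_trans (le_of_eq ?_) (Finset.card_le_card hsub)
  rw [Finset.card_insert_of_notMem, Finset.card_insert_of_notMem, Finset.card_insert_of_notMem,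
    Finset.card_singleton]
  all_goals simp only [Finset.mem_insert, Finset.mem_singleton]
  · exact fun e => hac hb hb2 hB (e ▸ hc')
  · rintro (e | e)
    · exact hab e
    · exact hac ha ha2 hA (e ▸ hc')
  · rintro (e | e | e)
    · exact ha2 e.symm
    · exact hb2 e.symm
    · exact hc2 e.symm

/-- Groups of order prime to three with at most three primes and these orders are solvable. -/
theorem isSolvable_of_hyp : ∀ (n : ℕ) (G : Type u) [Group G] [Finite G], Nat.card G = n → Hyp G →
    ¬ 3 ∣ Nat.card G → (Nat.card G).primeFactors.card ≤ 3 → Group.IsSolvable G := by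
  intro n
  induction n using Nat.strong_induction_on with
  | _ n ih =>
    intro G _ _ hn h h3 hp
    have hdown : ∀ (K : Type u) [Group K] [Finite K], Nat.card K ∣ Nat.card G →
        Nat.card K < Nat.card G → Hyp K → Group.IsSolvable K := fun K _ _ hd hlt hK =>
      ih _ (hn ▸ hlt) K rfl hK (fun e => h3 (e.trans hd))
        ((Finset.card_le_card (Nat.primeFactors_mono hd Nat.card_pos.ne')).trans hp)
    by_contra hns
    haveI : Nontrivial G := not_subsingleton_iff_nontrivial.1 fun _ => hns inferInstance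
    have hltN : ∀ N : Subgroup G, N ≠ ⊤ → Nat.card N < Nat.card G := fun N hN => by
      rw [← Nat.card_congr (Subgroup.topEquiv (G := G)).toEquiv]
      exact Set.Finite.card_lt_card (Set.toFinite _)
        (SetLike.coe_ssubset_coe.2 (lt_top_iff_ne_top.2 hN))
    haveI : IsSimpleGroup G := by
      refine ⟨fun N hN => ?_⟩
      by_contra hc
      push Not at hc
      haveI := hN
      refine hns ((Group.isSolvable_iff_subgroup_quotient N).2
        ⟨hdown _ N.card_subgroup_dvd_card (hltN N hc.2) (h.subgroup N),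
          hdown _ (Subgroup.card_quotient_dvd_card N) ?_ (h.quotient N)⟩)
      rw [card_eq_card_quotient_mul_card_subgroup N]
      exact lt_mul_of_one_lt_right Nat.card_pos
        (Finite.one_lt_card_iff_nontrivial.2 ((nontrivial_iff_ne_bot N).2 hc.1))
    have hloc : ∀ X : Subgroup G, IsPGroup 2 X → X ≠ ⊥ →
        normalizer (X : Set G) ≠ ⊤ ∧ Group.IsSolvable (normalizer (X : Set G) : Subgroup G) := by
      intro X hX hX1
      have hne : normalizer (X : Set G) ≠ ⊤ := fun e => by
        haveI := normalizer_eq_top_iff.1 e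
        rcases (inferInstance : X.Normal).eq_bot_or_eq_top with hb | ht
        · exact hX1 hb
        · rw [ht] at hX
          exact hns (isSolvable_of_isPGroup (p := 2) (hX.of_equiv Subgroup.topEquiv))
      exact ⟨hne, hdown _ (Subgroup.card_subgroup_dvd_card _) (hltN _ hne) (h.subgroup _)⟩
    rcases psl_or_suzuki h hns hloc with ⟨F, _, _, ⟨e⟩⟩ | hsz
    · refine h3 ?_
      have hcard := H6.card_psl2_mul (F := F) (q := Fintype.card F) rfl
      rw [← Nat.card_congr e.toEquiv] at hcard
      set q := Fintype.card F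
      have hq2 : 2 ≤ q := Fintype.one_lt_card
      have h1 : 3 ∣ q * (q ^ 2 - 1) := by
        rcases (show q % 3 = 0 ∨ q % 3 = 1 ∨ q % 3 = 2 by omega) with hm | hm | hm
        · exact Dvd.dvd.mul_right (Nat.dvd_of_mod_eq_zero hm) _
        all_goals
          refine Dvd.dvd.mul_left ?_ _
          refine (Nat.modEq_iff_dvd' (Nat.one_le_pow _ _ (by omega))).1 ?_
          rw [Nat.ModEq, Nat.pow_mod, hm]
      rw [← hcard] at h1
      refine (Nat.prime_three.dvd_mul.1 h1).resolve_right fun hg => ?_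
      have h32 := hg.trans (Nat.gcd_dvd_left _ _)
      norm_num at h32
    · have := false_of_suzuki hsz
      omega

/-- The case of an element of order four. -/
theorem case_four {G : Type u} [Group G] [Finite G] [IsSimpleGroup G] (hG : ¬ IsMulCommutative G)
    (h : Hyp G) (hp : (Nat.card G).primeFactors.card ≤ 3)
    (hO : ∀ g : G, g ≠ 1 → orderOf g = 4 ∨ orderOf g ∈ (Nat.card G).primeFactors)
    (h4 : ∃ g : G, orderOf g = 4) :
    Nonempty (G ≃* ↥(alternatingGroup (Fin 5))) ∨ Nonempty (G ≃* ↥(alternatingGroup (Fin 6))) ∨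
      (∃ (F : Type) (_ : Field F) (_ : Fintype F), (Fintype.card F = 7 ∨ Fintype.card F = 8) ∧
        Nonempty (G ≃* Matrix.ProjectiveSpecialLinearGroup (Fin 2) F)) := by
  have hns : ¬ Group.IsSolvable G := fun hs => hG ⟨⟨IsSimpleGroup.comm_iff_isSolvable.2 hs⟩⟩
  by_cases h5 : 5 ∣ Nat.card G
  swap
  · haveI : Fact (Nat.Prime 7) := ⟨by norm_num⟩
    obtain ⟨e⟩ := PSLSeven.main _ G rfl h h5 hns
    exact Or.inr (Or.inr ⟨ZMod 7, inferInstance, inferInstance, Or.inl (ZMod.card 7), ⟨e⟩⟩)
  have h3 : 3 ∣ Nat.card G := by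
    by_contra h3
    exact hns (isSolvable_of_hyp _ G rfl h h3 hp)
  obtain ⟨g4, hg4⟩ := h4
  have h2 : 2 ∣ Nat.card G := (hg4 ▸ (by norm_num : 2 ∣ 4)).trans (orderOf_dvd_natCard g4)
  have hmem : ∀ {r : ℕ}, r.Prime → r ∣ Nat.card G → r ∈ (Nat.card G).primeFactors :=
    fun hr hd => Nat.mem_primeFactors.2 ⟨hr, hd, Nat.card_pos.ne'⟩
  have hsub : ({2, 3, 5} : Finset ℕ) ⊆ (Nat.card G).primeFactors := by
    intro r hr
    simp only [Finset.mem_insert, Finset.mem_singleton] at hr
    rcases hr with rfl | rfl | rfl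
    · exact hmem Nat.prime_two h2
    · exact hmem Nat.prime_three h3
    · exact hmem (by norm_num) h5
  have heq := Finset.eq_of_subset_of_card_le hsub (hp.trans_eq rfl)
  have hrange : Set.range (orderOf : G → ℕ) = {k : ℕ | 1 ≤ k ∧ k ≤ 5} := by
    ext k
    simp only [Set.mem_range, Set.mem_setOf_eq]
    constructor
    · rintro ⟨g, rfl⟩
      rcases eq_or_ne g 1 with rfl | hg1
      · rw [orderOf_one]; omega
      rcases hO g hg1 with e | e
      · omega
      · rw [← heq] at e
        simp only [Finset.mem_insert, Finset.mem_singleton] at e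
        omega
    · rintro ⟨hk1, hk5⟩
      have hex : ∀ {r : ℕ}, r.Prime → r ∣ Nat.card G → ∃ g : G, orderOf g = r := fun hr hd => by
        haveI := Fact.mk hr
        exact exists_prime_orderOf_dvd_card' _ hd
      interval_cases k
      · exact ⟨1, orderOf_one⟩
      · exact hex Nat.prime_two h2
      · exact hex Nat.prime_three h3
      · exact ⟨g4, hg4⟩
      · exact hex (by norm_num) h5
  rcases S3433.result hrange with h6 | ⟨N, hN, -, ⟨e⟩⟩
  · exact Or.inr (Or.inl h6)
  · haveI := hN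
    rcases hN.eq_bot_or_eq_top with rfl | rfl
    · exact Or.inl ⟨(QuotientGroup.quotientBot (G := G)).symm.trans e⟩
    · have h1 : Nat.card (G ⧸ (⊤ : Subgroup G)) = 1 := Subgroup.index_top
      rw [Nat.card_congr e.toEquiv, nat_card_alternatingGroup, Nat.card_eq_fintype_card,
        Fintype.card_fin] at h1
      norm_num [Nat.factorial] at h1

end Cfsg.Agent.H59.FiveOrbits
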