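import Cfsg.Agent.H59.FiveOrbits.Setting
import Cfsg.Agent.H59.PSLSeven.Zassenhaus
import Cfsg.Agent.H28.CyclicSylow

/-!
# Five automorphism orbits: involution centralisers in the configuration with an element of order `2p`
-/

set_option autoImplicit false
set_option linter.style.haveILetI false
set_option linter.unusedSectionVars false

namespace Cfsg.Agent.H59.FiveOrbits

open Subgroup PSLSeven

local instance factTwoCentraliser : Fact (Nat.Prime 2) := ⟨Nat.prime_two⟩

/-- The odd core of an involution centraliser, as a subgroup of the group. -/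
abbrev core {G : Type*} [Group G] (t : G) : Subgroup G :=
  (Cfsg.pPrimeCore 2 (centralizer ({t} : Set G))).map (centralizer ({t} : Set G)).subtype

/-- Two involutive automorphisms of an abelian group of odd exponent, each fixing an element the
other moves, and a product of which fixes the product of these elements. -/
theorem crossed_fix {V : Type*} [CommGroup V] (h2 : ∀ v : V, v * v = 1 → v = 1) {f g : V →* V}
    (hg2 : ∀ v, g (g v) = v) (hc : ∀ v, f (g v) = g (f v)) {v w : V} (hv : f v = v) (hw : g w = w)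
    (hfg : f (g (v * w)) = v * w) : g v = v := by
  have h1 : g v * f w = v * w := by
    have e : f (g v) = g v := by rw [hc, hv]
    rwa [map_mul, hw, map_mul, e] at hfg
  have h3 : v * f w = g v * w := by
    have e := congrArg g h1
    have e' : g (f w) = f w := by rw [← hc, hw]
    rwa [map_mul, map_mul, hg2, e', hw] at e
  have h4 : g v * (v⁻¹) * (g v * v⁻¹) = 1 := by
    have e1 : f w = (g v)⁻¹ * (v * w) := eq_inv_mul_iff_mul_eq.2 h1
    rw [e1] at h3
    have e2 : v * (g v)⁻¹ * v = g v := mul_right_cancel (b := w) (by rw [← h3]; group)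
    nth_rewrite 1 [← e2]
    rw [show v * (g v)⁻¹ * v * v⁻¹ * (g v * v⁻¹) = v * v⁻¹ by group]
    exact mul_inv_cancel v
  exact mul_inv_eq_one.1 (h2 _ h4)

variable {G : Type*} [Group G] [Finite G] {p q : ℕ}

/-- Correcting an element by a square root. -/
theorem split {n : ℕ} (hn : Odd n) {s w : G} (hs : s * s = 1)
    (hy : (w⁻¹ * (s * w * s⁻¹)) ^ n = 1) :
    ∃ r ∈ zpowers (w⁻¹ * (s * w * s⁻¹)), s * r * s⁻¹ = r⁻¹ ∧ Commute s (w * r) := by
  set y := w⁻¹ * (s * w * s⁻¹) with hydef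
  obtain ⟨m, rfl⟩ := hn
  have hinv : s * y * s⁻¹ = y⁻¹ := by
    rw [hydef, show s * (w⁻¹ * (s * w * s⁻¹)) * s⁻¹ = s * w⁻¹ * s⁻¹ * ((s * s) * w * (s * s)⁻¹) by
      group, hs]
    group
  have hr : (y ^ (m + 1)) * (y ^ (m + 1)) = y := by
    rw [← pow_add, show m + 1 + (m + 1) = 2 * m + 1 + 1 by ring, pow_succ, hy, one_mul]
  refine ⟨y ^ (m + 1), pow_mem (mem_zpowers y) _, by rw [← conj_pow, hinv, inv_pow], ?_⟩
  refine mul_inv_eq_iff_eq_mul.1 ?_
  rw [show s * (w * y ^ (m + 1)) * s⁻¹ = (s * w * s⁻¹) * (s * y ^ (m + 1) * s⁻¹) by group,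
    ← conj_pow, hinv, inv_pow, show s * w * s⁻¹ = w * y by rw [hydef]; group]
  nth_rewrite 1 [← hr]
  group

theorem mul_mem_of_two_mul {S H : Subgroup G} (hHS : H ≤ S) (hc : Nat.card S ≤ 2 * Nat.card H)
    {s s' : G} (hs : s ∈ S) (hs' : s' ∈ S) (h1 : s ∉ H) (h2 : s' ∉ H) : s * s' ∈ H := by
  have hi : (H.subgroupOf S).index = 2 := by
    have h3 := (H.subgroupOf S).card_mul_index
    rw [Nat.card_congr (subgroupOfEquivOfLe hHS).toEquiv] at h3
    have h4 : (H.subgroupOf S).index ≤ 2 :=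
      Nat.le_of_mul_le_mul_left (h3.trans_le (hc.trans_eq (mul_comm _ _))) Nat.card_pos
    have h5 : (H.subgroupOf S).index ≠ 1 := fun e => h1 (subgroupOf_eq_top.1 (index_eq_one.1 e) hs)
    have h6 : (H.subgroupOf S).index ≠ 0 := index_ne_zero_of_finite
    omega
  have := (mul_mem_iff_of_index_two hi (a := (⟨s, hs⟩ : S)) (b := ⟨s', hs'⟩)).2
    ⟨fun e => absurd (mem_subgroupOf.1 e) h1, fun e => absurd (mem_subgroupOf.1 e) h2⟩
  exact mem_subgroupOf.1 this

theorem core_le (t : G) : core t ≤ centralizer ({t} : Set G) := map_subtype_le _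

theorem core_commute {t w : G} (hw : w ∈ core t) : Commute t w :=
  (mem_centralizer_singleton_iff.1 (core_le t hw)).symm

theorem core_conj {t c w : G} (hc : c ∈ centralizer ({t} : Set G)) (hw : w ∈ core t) :
    c * w * c⁻¹ ∈ core t := by
  obtain ⟨y, hy, rfl⟩ := hw
  exact ⟨⟨c, hc⟩ * y * ⟨c, hc⟩⁻¹, (H19.pPrimeCore_normal 2 _).conj_mem y hy _, rfl⟩

theorem sylow_le_centralizer (h : TwoP G p q) (S : Sylow 2 G) {t : G} (ht : t ∈ (S : Subgroup G)) :
    (S : Subgroup G) ≤ centralizer ({t} : Set G) := fun _ hs =>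
  mem_centralizer_singleton_iff.2 ((h.ea S.2).comm hs ht).eq

namespace TwoP

variable (h : TwoP G p q)
include h

theorem pow_eq_one {X : Subgroup G} (hX : IsPGroup p X) {x : G} (hx : x ∈ X) : x ^ p = 1 := by
  rcases eq_or_ne x 1 with rfl | h1
  · exact one_pow p
  haveI := Fact.mk h.hp
  obtain ⟨i, hi⟩ := IsPGroup.iff_orderOf.1 hX ⟨x, hx⟩
  rw [orderOf_mk] at hi
  have hd : ∀ {r : ℕ}, r.Prime → r ∣ p ^ i → r = p := fun hr hd =>
    (Nat.prime_dvd_prime_iff_eq hr h.hp).1 (hr.dvd_of_dvd_pow hd)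
  rcases h.ord x h1 with e | e | e | e
  · exact absurd (hd Nat.prime_two (hi ▸ e ▸ dvd_rfl)).symm h.hp2
  · exact e ▸ pow_orderOf_eq_one x
  · exact absurd (hd h.hq (hi ▸ e ▸ dvd_rfl)).symm h.hpq
  · exact absurd (hd Nat.prime_two (hi ▸ e ▸ dvd_mul_right 2 p)).symm h.hp2

theorem orderOf_of_mem {X : Subgroup G} (hX : IsPGroup p X) {x : G} (hx : x ∈ X) (hx1 : x ≠ 1) :
    orderOf x = p := by
  haveI := Fact.mk h.hp
  exact orderOf_eq_prime (h.pow_eq_one hX hx) hx1

theorem eq_one_of_sq {X : Subgroup G} (hX : IsPGroup p X) {x : G} (hx : x ∈ X) (h2 : x * x = 1) :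
    x = 1 := by
  by_contra hx1
  exact h.hp2 ((h.orderOf_of_mem hX hx hx1).symm.trans (orderOf_two_of_sq h2 hx1))

theorem exists_p : ∃ x : G, orderOf x = p := by
  obtain ⟨g, hg⟩ := h.hx
  exact ⟨g ^ 2, by rw [orderOf_pow' _ two_ne_zero, hg, Nat.gcd_mul_right_left,
    Nat.mul_div_cancel_left _ two_pos]⟩

theorem dvd_centralizer (S : Sylow 2 G) {x y : G} (hx : orderOf x = p) (hy : orderOf y = p) {n : ℕ}
    (hd : Nat.card (S : Subgroup G) ∣ n * Nat.card (centralizer ({x} : Set G))) :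
    Nat.card (S : Subgroup G) ∣ n * Nat.card (centralizer ({y} : Set G)) := by
  obtain ⟨α, rfl⟩ := h.orb x y (hx.trans hy.symm)
  rwa [card_centralizer_map]

/-- If a full Sylow 2-subgroup centralises an element of order `p`, none is inverted. -/
theorem not_inverted_of_full (S : Sylow 2 G) {x : G} (hx : orderOf x = p)
    (hfull : Nat.card (S : Subgroup G) ∣ Nat.card (centralizer ({x} : Set G))) {u y : G}
    (hu : orderOf u = 2) (hy : orderOf y = p) : u * y * u⁻¹ ≠ y⁻¹ := by
  intro hi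
  set C := centralizer ({y} : Set G) with hC
  have hCd : Nat.card (S : Subgroup G) ∣ Nat.card C := by
    simpa using h.dvd_centralizer S hx hy (n := 1) (by simpa using hfull)
  have hun : u ∈ normalizer (C : Set G) := by
    refine mem_normalizer_fintype fun d hd => mem_centralizer_singleton_iff.2 ?_
    have h1 := ((show Commute d y from mem_centralizer_singleton_iff.1 hd).inv_right).map
      (MulAut.conj u).toMonoidHom
    have e : u * y⁻¹ * u⁻¹ = y := by rw [← conj_inv, hi, inv_inv]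
    simp only [MulEquiv.coe_toMonoidHom, MulAut.conj_apply, e] at h1
    exact h1.eq
  have huC : u ∉ C := fun huC => by
    rw [mul_inv_eq_iff_eq_mul.2 (mem_centralizer_singleton_iff.1 huC)] at hi
    haveI := Fact.mk h.hp
    exact h.eq_one_of_sq (IsPGroup.of_card (n := 1) (by rw [Nat.card_zpowers, hy, pow_one]))
      (mem_zpowers y) (by nth_rewrite 1 [hi]; exact inv_mul_cancel y) |>
      fun e => by rw [e, orderOf_one] at hy; exact h.hp.ne_one hy.symm
  set L := C ⊔ zpowers u with hL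
  have hLn : L ≤ normalizer (C : Set G) := sup_le le_normalizer (zpowers_le.2 hun)
  haveI : (C.subgroupOf L).Normal := (normal_subgroupOf_iff_le_normalizer le_sup_left).2 hLn
  have h2 : 2 ∣ (C.subgroupOf L).index := by
    have h1 : orderOf (QuotientGroup.mk' (C.subgroupOf L) ⟨u, mem_sup_right (mem_zpowers u)⟩) = 2 := by
      refine orderOf_two_of_sq ?_ ?_
      · rw [← map_mul, show (⟨u, mem_sup_right (mem_zpowers u)⟩ * ⟨u, mem_sup_right (mem_zpowers u)⟩ : L)
          = 1 from Subtype.ext (sq_of_orderOf_two hu).1, map_one]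
      · rw [Ne, QuotientGroup.mk'_apply, QuotientGroup.eq_one_iff, mem_subgroupOf]
        exact huC
    exact h1 ▸ orderOf_dvd_natCard _
  have h3 : Nat.card (S : Subgroup G) * 2 ∣ Nat.card G := by
    refine dvd_trans ?_ (Subgroup.card_subgroup_dvd_card L)
    rw [← (C.subgroupOf L).card_mul_index,
      Nat.card_congr (subgroupOfEquivOfLe (le_sup_left : C ≤ L)).toEquiv]
    exact mul_dvd_mul hCd h2
  rw [S.card_eq_multiplicity, ← pow_succ,
    Nat.prime_two.pow_dvd_iff_le_factorization Nat.card_pos.ne'] at h3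
  omega

theorem mem_core {t b : G} (ht : orderOf t = 2) (hne : core t ≠ ⊥) (hb : orderOf b = p)
    (hc : Commute t b) : b ∈ core t := by
  haveI := Fact.mk h.hp
  obtain ⟨b0, hb0, hb0o⟩ := H86.AllPrimePowerOrder.exists_orderOf_eq (h.core_isPGroup ht) hne
  obtain ⟨α, hαt, hαb⟩ := h.exists_aut_fix ht hb0o hb (core_commute hb0) hc
  have h2 : α b0 ∈ core (α t) := map_core_le α ⟨b0, hb0, rfl⟩
  rwa [hαt, hαb] at h2

theorem odd_mem_core {t b : G} (ht : orderOf t = 2) (hne : core t ≠ ⊥) (hb : Odd (orderOf b))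
    (hc : Commute t b) : b ∈ core t := by
  rcases eq_or_ne b 1 with rfl | h1
  · exact one_mem _
  · exact h.mem_core ht hne (h.orderOf_eq_p (Or.inl ht) hc hb h1) hc

theorem centralizer_le_normalizer_of_core (S : Sylow 2 G) {t : G} (ht : orderOf t = 2)
    (htS : t ∈ (S : Subgroup G)) (h0 : core t = ⊥) :
    centralizer ({t} : Set G) ≤ normalizer ((S : Subgroup G) : Set G) := by
  set C := centralizer ({t} : Set G)
  have hSC := sylow_le_centralizer h S htS
  haveI := h.isSolvable_centralizer ht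
  have hab : IsMulCommutative (S.subtype hSC : Subgroup C) :=
    ⟨⟨fun a b => Subtype.ext (Subtype.ext ((h.ea S.2).comm
      (mem_subgroupOf.1 a.2) (mem_subgroupOf.1 b.2)).eq)⟩⟩
  have hn := H19.sylow_sup_pPrimeCore_normal (S.subtype hSC) hab
  rw [(Subgroup.map_eq_bot_iff_of_injective _ C.subtype_injective).1 h0, sup_bot_eq,
    Sylow.coe_subtype] at hn
  exact (normal_subgroupOf_iff_le_normalizer hSC).1 hn

theorem centralizer_eq (S : Sylow 2 G) {t : G} (ht : orderOf t = 2)
    (htS : t ∈ (S : Subgroup G)) (hne : core t ≠ ⊥) {c : G} (hc : c ∈ centralizer ({t} : Set G)) :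
    ∃ s ∈ (S : Subgroup G), ∃ o ∈ core t, s * o = c := by
  set C := centralizer ({t} : Set G) with hC
  have hSC := sylow_le_centralizer h S htS
  haveI := h.isSolvable_centralizer ht
  have hab : IsMulCommutative (S.subtype hSC : Subgroup C) :=
    ⟨⟨fun a b => Subtype.ext (Subtype.ext ((h.ea S.2).comm
      (mem_subgroupOf.1 a.2) (mem_subgroupOf.1 b.2)).eq)⟩⟩
  haveI hR := H19.pPrimeCore_normal 2 C
  set N := (S.subtype hSC : Subgroup C) ⊔ Cfsg.pPrimeCore 2 C with hN
  haveI hn : N.Normal := H19.sylow_sup_pPrimeCore_normal (S.subtype hSC) hab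
  have hodd : Odd (Nat.card (C ⧸ N)) := by
    refine Nat.not_even_iff_odd.1 fun he => (S.subtype hSC).not_dvd_index ?_
    exact (even_iff_two_dvd.1 he).trans (index_dvd_of_le (le_sup_left : _ ≤ N))
  have key : ∀ d : C, d ∈ N := by
    intro d
    have hd2 : d ^ 2 ∈ N := by
      refine mem_sup_right ?_
      have ho : Odd (orderOf ((d : G) ^ 2)) := by
        rcases eq_or_ne (d : G) 1 with e | e
        · simp [e]
        rcases h.ord d e with e' | e' | e' | e'
        · rw [← e', pow_orderOf_eq_one]; simp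
        · exact (e'.symm ▸ h.hp.odd_of_ne_two h.hp2 : Odd (orderOf (d : G))).of_dvd_nat (orderOf_pow_dvd 2)
        · exact (e'.symm ▸ h.hq.odd_of_ne_two h.hq2 : Odd (orderOf (d : G))).of_dvd_nat (orderOf_pow_dvd 2)
        · rw [orderOf_pow' _ two_ne_zero, e', Nat.gcd_mul_right_left, Nat.mul_div_cancel_left _ two_pos]
          exact h.hp.odd_of_ne_two h.hp2
      obtain ⟨y, hy, hye⟩ := h.odd_mem_core ht hne ho
        ((show Commute t (d : G) from (mem_centralizer_singleton_iff.1 d.2).symm).pow_right 2)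
      rwa [show y = d ^ 2 from Subtype.ext (by simpa using hye)] at hy
    have h1 : (QuotientGroup.mk' N d) ^ 2 = 1 := by
      rw [← map_pow, QuotientGroup.mk'_apply, QuotientGroup.eq_one_iff]; exact hd2
    have h2 : orderOf (QuotientGroup.mk' N d) ∣ 1 :=
      (Nat.coprime_two_left.2 hodd).gcd_eq_one ▸
        Nat.dvd_gcd (orderOf_dvd_of_pow_eq_one h1) (orderOf_dvd_natCard _)
    rw [Nat.dvd_one, orderOf_eq_one_iff, QuotientGroup.mk'_apply, QuotientGroup.eq_one_iff] at h2
    exact h2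
  obtain ⟨s, hs, o, ho, e⟩ := mem_sup_of_normal_right.1 (key ⟨c, hc⟩)
  exact ⟨s, mem_subgroupOf.1 hs, o, ⟨o, ho, rfl⟩, congrArg Subtype.val e⟩

/-- Normalising the Sylow 2-subgroup, or a core that no Sylow 2-subgroup centralises. -/
theorem se_or_small (S : Sylow 2 G) :
    (∀ t ∈ (S : Subgroup G), orderOf t = 2 →
      centralizer ({t} : Set G) ≤ normalizer ((S : Subgroup G) : Set G)) ∨
    ((∀ t : G, orderOf t = 2 → core t ≠ ⊥) ∧
      ∀ x : G, orderOf x = p → ¬ Nat.card (S : Subgroup G) ∣ Nat.card (centralizer ({x} : Set G))) := by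
  by_cases h0 : ∃ t : G, orderOf t = 2 ∧ core t = ⊥
  · obtain ⟨t0, ht0, h0⟩ := h0
    refine Or.inl fun t htS ht => h.centralizer_le_normalizer_of_core S ht htS ?_
    obtain ⟨α, hα⟩ := h.orb t t0 (ht.trans ht0.symm)
    refine Subgroup.card_eq_one.1 (le_antisymm ?_ Nat.card_pos)
    exact (card_core_le α hα).trans (Subgroup.card_eq_one.2 h0).le
  push Not at h0
  by_cases hf : ∃ x : G, orderOf x = p ∧
      Nat.card (S : Subgroup G) ∣ Nat.card (centralizer ({x} : Set G))
  · obtain ⟨x, hx, hfull⟩ := hf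
    refine Or.inl fun t htS ht c hc => ?_
    obtain ⟨s, hs, o, ho, rfl⟩ := h.centralizer_eq S ht htS (h0 t ht) hc
    refine mul_mem (le_normalizer hs) ?_
    refine mem_normalizer_fintype fun u hu => ?_
    suffices hcomm : Commute u o by rwa [mul_inv_eq_iff_eq_mul.2 hcomm.symm.eq]
    rcases eq_or_ne u 1 with rfl | hu1
    · exact Commute.one_left o
    have huu := h.sq_of_mem S.2 hu
    set y := o⁻¹ * (u * o * u⁻¹) with hy
    have hyO : y ∈ core t :=
      mul_mem (inv_mem ho) (core_conj (sylow_le_centralizer h S htS hu) ho)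
    have hinv : u * y * u⁻¹ = y⁻¹ := by
      rw [hy, show u * (o⁻¹ * (u * o * u⁻¹)) * u⁻¹ = u * o⁻¹ * u⁻¹ * ((u * u) * o * (u * u)⁻¹) by group,
        huu]
      group
    by_contra hne
    refine h.not_inverted_of_full S hx hfull (orderOf_two_of_sq huu hu1)
      (h.orderOf_of_mem (h.core_isPGroup ht) hyO fun e => hne ?_) hinv
    exact (mul_inv_eq_iff_eq_mul.1 (inv_mul_eq_one.1 e).symm)
  push Not at hf
  exact Or.inr ⟨h0, hf⟩

theorem half (S : Sylow 2 G) {t : G} (ht : orderOf t = 2) (htS : t ∈ (S : Subgroup G))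
    (hne : core t ≠ ⊥) {x : G} (hx : orderOf x = p) :
    Nat.card (S : Subgroup G) ∣ 2 * Nat.card (centralizer ({x} : Set G)) := by
  haveI := Fact.mk h.hp
  obtain ⟨z, ⟨hzO, hz1⟩, hzmax⟩ := Set.exists_max_image {z : G | z ∈ core t ∧ z ≠ 1}
    (fun z => Nat.card ((S : Subgroup G) ⊓ centralizer {z} : Subgroup G)) (Set.toFinite _) (by
      obtain ⟨b, hb, hbo⟩ := H86.AllPrimePowerOrder.exists_orderOf_eq (h.core_isPGroup ht) hne
      exact ⟨b, hb, fun e => by rw [e, orderOf_one] at hbo; exact h.hp.ne_one hbo.symm⟩)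
  set H := (S : Subgroup G) ⊓ centralizer {z} with hH
  set R := core t ⊓ centralizer (H : Set G) with hR
  have hinv : ∀ s ∈ (S : Subgroup G), s ∉ H → s * z * s⁻¹ = z⁻¹ := by
    intro s hs hsH
    refine fpf_inverts (C := R) (h.sq_of_mem S.2 hs) (fun d hd => ⟨core_conj
      (sylow_le_centralizer h S htS hs) hd.1, mem_centralizer_iff.2 fun k hk => ?_⟩) (fun y hy hc => ?_)
      ⟨hzO, mem_centralizer_iff.2 fun k hk => mem_centralizer_singleton_iff.1 hk.2⟩
    · have h1 : Commute k s := (h.ea S.2).comm hk.1 hs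
      have h2 : Commute k d := mem_centralizer_iff.1 hd.2 k hk
      exact ((h1.mul_right h2).mul_right h1.inv_right).eq
    · by_contra hy1
      have hle : H ≤ (S : Subgroup G) ⊓ centralizer {y} := fun k hk =>
        ⟨hk.1, mem_centralizer_singleton_iff.2 (mem_centralizer_iff.1 hy.2 k hk)⟩
      have := Subgroup.eq_of_le_of_card_ge hle (hzmax y ⟨hy.1, hy1⟩)
      exact hsH (this ▸ ⟨hs, mem_centralizer_singleton_iff.2 hc.eq⟩)
  have hle : Nat.card (S : Subgroup G) ≤ 2 * Nat.card H := by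
    by_cases hall : (S : Subgroup G) ≤ H
    · exact (Subgroup.card_le_of_le hall).trans (Nat.le_mul_of_pos_left _ two_pos)
    obtain ⟨s0, hs0, hs0H⟩ := SetLike.not_le_iff_exists.1 hall
    refine card_le_two_mul _ H s0 fun s hs hsH => ⟨mul_mem hs0 hs, mem_centralizer_singleton_iff.2 ?_⟩
    refine mul_inv_eq_iff_eq_mul.1 ?_
    rw [show s0 * s * z * (s0 * s)⁻¹ = s0 * (s * z * s⁻¹) * s0⁻¹ by group, hinv s hs hsH, ← conj_inv,
      hinv s0 hs0 hs0H, inv_inv]
  have hzo := h.orderOf_of_mem (h.core_isPGroup ht) hzO hz1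
  refine h.dvd_centralizer S hzo hx ?_
  refine dvd_trans ?_ (mul_dvd_mul_left 2 (Subgroup.card_dvd_of_le (inf_le_right : H ≤ _)))
  obtain ⟨k, hk⟩ := Subgroup.card_dvd_of_le (inf_le_left : H ≤ (S : Subgroup G))
  have hk2 : k ≤ 2 := by
    rw [hk, mul_comm 2] at hle
    exact Nat.le_of_mul_le_mul_left hle Nat.card_pos
  rw [hk, mul_comm 2]
  refine mul_dvd_mul_left _ ?_
  interval_cases k
  · exact absurd (hk.trans (mul_zero _)) Nat.card_pos.ne'
  · exact one_dvd _
  · exact dvd_rfl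

/-- Every element of the core is conjugate in it to one centralised by half of the Sylow subgroup. -/
theorem exists_conj_half (S : Sylow 2 G) {t : G} (ht : orderOf t = 2) (htS : t ∈ (S : Subgroup G))
    (hne : core t ≠ ⊥) {x : G} (hx : x ∈ core t) (hx1 : x ≠ 1) :
    ∃ o ∈ core t, ∀ s ∈ (S : Subgroup G), ∀ s' ∈ (S : Subgroup G), ¬ Commute s (o * x * o⁻¹) →
      ¬ Commute s' (o * x * o⁻¹) → Commute (s * s') (o * x * o⁻¹) := by
  have hxo := h.orderOf_of_mem (h.core_isPGroup ht) hx hx1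
  set C := centralizer ({x} : Set G)
  have htC : t ∈ C := mem_centralizer_singleton_iff.2 (core_commute hx).eq
  obtain ⟨R, hR⟩ := (IsPGroup.of_card (p := 2) (n := 1)
    (show Nat.card (zpowers (⟨t, htC⟩ : C)) = 2 ^ 1 by
      rw [Nat.card_zpowers, orderOf_mk, ht, pow_one])).exists_le_sylow
  set R' := (R : Subgroup C).map C.subtype with hR'
  have hR'p : IsPGroup 2 R' := R.2.map _
  have htR : t ∈ R' := ⟨⟨t, htC⟩, hR (mem_zpowers _), rfl⟩
  set D := centralizer ({t} : Set G)
  have hR'D : R' ≤ D := fun r hr => mem_centralizer_singleton_iff.2 ((h.ea hR'p).comm hr htR).eq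
  have hSD := sylow_le_centralizer h S htS
  obtain ⟨U, hU⟩ := (hR'p.comap_subtype (K := D)).exists_le_sylow
  obtain ⟨g, hg⟩ := MulAction.exists_smul_eq D U (S.subtype hSD)
  obtain ⟨s0, hs0, o, ho, he⟩ := h.centralizer_eq S ht htS hne g.2
  refine ⟨o, ho, ?_⟩
  have hconj : ∀ r ∈ R', o * r * o⁻¹ ∈ (S : Subgroup G) ⊓ centralizer {o * x * o⁻¹} := by
    intro r hr
    refine ⟨?_, mem_centralizer_singleton_iff.2 ?_⟩
    · have h1 : (g * ⟨r, hR'D hr⟩ * g⁻¹ : D) ∈ (S.subtype hSD : Subgroup D) := by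
        rw [← hg]
        exact ⟨⟨r, hR'D hr⟩, hU (show (⟨r, hR'D hr⟩ : D) ∈ R'.comap D.subtype from hr), rfl⟩
      have h2 : (g : G) * r * (g : G)⁻¹ ∈ (S : Subgroup G) := h1
      rw [← he] at h2
      have h3 := mul_mem (mul_mem (inv_mem hs0) h2) hs0
      rwa [show s0⁻¹ * (s0 * o * r * (s0 * o)⁻¹) * s0 = o * r * o⁻¹ by group] at h3
    · obtain ⟨r', -, rfl⟩ := hr
      exact ((Commute.conj_iff o).2 (mem_centralizer_singleton_iff.1 r'.2)).eq
  have hcard : Nat.card (S : Subgroup G) ≤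
      2 * Nat.card ((S : Subgroup G) ⊓ centralizer {o * x * o⁻¹} : Subgroup G) := by
    have h1 : Nat.card (R : Subgroup C) = Nat.card R' :=
      Nat.card_congr ((R : Subgroup C).equivMapOfInjective _ C.subtype_injective).toEquiv
    have h2 : Nat.card (S : Subgroup G) ∣ 2 * Nat.card R' := by
      obtain ⟨n, hn⟩ := IsPGroup.iff_card.1 S.2
      have hd := h.half S ht htS hne hxo
      rw [hn] at hd ⊢
      rw [← h1, R.card_eq_multiplicity, ← pow_succ',
        Nat.pow_dvd_pow_iff_le_right (le_refl 2)]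
      have := (Nat.prime_two.pow_dvd_iff_le_factorization (Nat.mul_ne_zero two_ne_zero Nat.card_pos.ne')).1 hd
      rw [Nat.factorization_mul two_ne_zero Nat.card_pos.ne', Nat.prime_two.factorization] at this
      simpa [add_comm] using this
    refine (Nat.le_of_dvd (Nat.mul_pos two_pos Nat.card_pos) h2).trans (Nat.mul_le_mul_left 2 ?_)
    rw [← card_map_conj R' o]
    exact Subgroup.card_le_of_le (by rintro _ ⟨r, hr, rfl⟩; exact hconj r hr)
  intro s hs s' hs' h1 h2
  exact mem_centralizer_singleton_iff.1 (mul_mem_of_two_mul inf_le_left hcard hs hs'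
    (fun e => h1 (mem_centralizer_singleton_iff.1 e.2))
    (fun e => h2 (mem_centralizer_singleton_iff.1 e.2))).2

/-- Two elements outside the centraliser of the core have their product inside. -/
theorem core_index (S : Sylow 2 G) {t : G} (ht : orderOf t = 2) (htS : t ∈ (S : Subgroup G))
    (hne : core t ≠ ⊥) :
    ∀ s ∈ (S : Subgroup G), ∀ s' ∈ (S : Subgroup G), s ∉ centralizer (core t : Set G) →
      s' ∉ centralizer (core t : Set G) → s * s' ∈ centralizer (core t : Set G) := by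
  haveI := Fact.mk h.hp
  set O := core t with hO
  have hOp := h.core_isPGroup ht
  have hconjO : ∀ {s : G}, s ∈ (S : Subgroup G) → ∀ w ∈ O, s * w * s⁻¹ ∈ O := fun hs w hw =>
    core_conj (sylow_le_centralizer h S htS hs) hw
  let σ : ↥(S : Subgroup G) → (O →* O) := fun s =>
    { toFun := fun w => ⟨(s : G) * w * (s : G)⁻¹, hconjO s.2 w w.2⟩
      map_one' := Subtype.ext (by simp)
      map_mul' := fun a b => Subtype.ext (by simp [mul_assoc]) }
  let φ : ↥(S : Subgroup G) → (Abelianization O →* Abelianization O) := fun s => Abelianization.map (σ s)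
  have hφof : ∀ s w, φ s (Abelianization.of w) = Abelianization.of (σ s w) := fun s w =>
    Abelianization.map_of _ w
  have hmul : ∀ (s s' : (S : Subgroup G)) v, φ (s * s') v = φ s (φ s' v) := by
    intro s s' v
    obtain ⟨w, rfl⟩ := QuotientGroup.mk_surjective v
    show φ (s * s') (Abelianization.of w) = φ s (φ s' (Abelianization.of w))
    rw [hφof, hφof, hφof]
    exact congrArg _ (Subtype.ext (by simp [σ, mul_assoc]))
  have hone : ∀ v, φ 1 v = v := by
    intro v
    obtain ⟨w, rfl⟩ := QuotientGroup.mk_surjective v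
    show φ 1 (Abelianization.of w) = Abelianization.of w
    rw [hφof]
    exact congrArg _ (Subtype.ext (by simp [σ]))
  have hsq : ∀ s : (S : Subgroup G), s * s = 1 := fun s => Subtype.ext (h.sq_of_mem S.2 s.2)
  have hcomm : ∀ s s' : (S : Subgroup G), s * s' = s' * s := fun s s' =>
    Subtype.ext ((h.ea S.2).comm s.2 s'.2).eq
  have hV2 : ∀ v : Abelianization O, v * v = 1 → v = 1 := by
    intro v hv
    obtain ⟨w, rfl⟩ := QuotientGroup.mk_surjective v
    have h1 : (QuotientGroup.mk w : Abelianization O) ^ p = 1 := by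
      rw [← QuotientGroup.mk_pow, show w ^ p = 1 from Subtype.ext (by simpa using h.pow_eq_one hOp w.2)]
      rfl
    exact orderOf_eq_one_iff.1 (Nat.eq_one_of_dvd_coprimes
      ((Nat.coprime_primes Nat.prime_two h.hp).2 (Ne.symm h.hp2))
      (orderOf_dvd_of_pow_eq_one ((pow_two _).trans hv)) (orderOf_dvd_of_pow_eq_one h1))
  have hidx : ∀ v s s', φ s v ≠ v → φ s' v ≠ v → φ (s * s') v = v := by
    intro v s s' hs hs'
    obtain ⟨x, rfl⟩ := QuotientGroup.mk_surjective v
    rcases eq_or_ne x 1 with rfl | hx1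
    · exact absurd (map_one (φ s)) hs
    obtain ⟨o, ho, hall⟩ := h.exists_conj_half S ht htS hne x.2 fun e => hx1 (Subtype.ext e)
    have hxe : (Abelianization.of x) = Abelianization.of (⟨o, ho⟩ * x * ⟨o, ho⟩⁻¹ : O) := by
      simp [map_mul, mul_comm]
    have hfix : ∀ r : (S : Subgroup G), Commute (r : G) (o * x * o⁻¹) →
        φ r (Abelianization.of x) = Abelianization.of x := by
      intro r hr
      rw [hxe, hφof]
      exact congrArg _ (Subtype.ext (mul_inv_eq_iff_eq_mul.2 hr.eq))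
    exact hfix (s * s') (hall s s.2 s' s'.2 (fun e => hs (hfix s e)) fun e => hs' (hfix s' e))
  have hcent : ∀ s : (S : Subgroup G), (∀ v, φ s v = v) → (s : G) ∈ centralizer (O : Set G) := by
    intro s hs
    let L : Subgroup O := MonoidHom.eqLocus (σ s) (MonoidHom.id O)
    have hL : L ⊔ frattini O = ⊤ := by
      refine eq_top_iff.2 fun w _ => ?_
      obtain ⟨r, hr, -, hrc⟩ := split (h.hp.odd_of_ne_two h.hp2) (w := (w : G))
        (h.sq_of_mem S.2 s.2) (h.pow_eq_one hOp (mul_mem (inv_mem w.2) (hconjO s.2 w w.2)))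
      obtain ⟨j, hj⟩ := mem_zpowers_iff.1 hr
      have hy : w⁻¹ * σ s w ∈ commutator O := by
        rw [← Abelianization.ker_of, MonoidHom.mem_ker, map_mul, map_inv, ← hφof, hs, inv_mul_cancel]
      have h1 : (w * (w⁻¹ * σ s w) ^ j : O) ∈ L := by
        show σ s (w * (w⁻¹ * σ s w) ^ j) = w * (w⁻¹ * σ s w) ^ j
        refine Subtype.ext ?_
        show (s : G) * ((w : G) * ((w⁻¹ * σ s w : O) ^ j : O)) * (s : G)⁻¹ = (w : G) * ((w⁻¹ * σ s w : O) ^ j : O)
        rw [SubgroupClass.coe_zpow]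
        show (s : G) * ((w : G) * ((w : G)⁻¹ * ((s : G) * w * (s : G)⁻¹)) ^ j) * (s : G)⁻¹ =
          (w : G) * ((w : G)⁻¹ * ((s : G) * w * (s : G)⁻¹)) ^ j
        rw [hj]
        exact mul_inv_eq_iff_eq_mul.2 hrc.eq
      have h2 := mul_mem (mem_sup_left (T := frattini O) h1) (mem_sup_right (S := L)
        ((H24.commutator_le_frattini hOp) (zpow_mem hy (-j))))
      rwa [mul_assoc, ← zpow_add, add_neg_cancel, zpow_zero, mul_one] at h2
    have hLt : L = ⊤ := frattini_nongenerating hL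
    refine mem_centralizer_iff.2 fun w hw => ?_
    have h1 : (⟨w, hw⟩ : O) ∈ L := hLt ▸ mem_top _
    have h1' : σ s ⟨w, hw⟩ = ⟨w, hw⟩ := h1
    exact (mul_inv_eq_iff_eq_mul.1 (congrArg Subtype.val h1')).symm
  intro s hs s' hs' h1 h2
  obtain ⟨v, hv⟩ : ∃ v, φ ⟨s, hs⟩ v ≠ v := by
    by_contra hc; push Not at hc; exact h1 (hcent _ hc)
  have key : ∀ r : (S : Subgroup G), φ r v = v → ∀ w, φ r w = w := by
    intro r hr w
    by_contra hw
    have hno : ∀ r' : (S : Subgroup G), φ r' w = w → φ r' v = v := by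
      intro r' hr'
      by_contra hv'
      refine hv' (crossed_fix hV2 (f := φ r) (g := φ r') (fun u => by rw [← hmul, hsq, hone])
        (fun u => by rw [← hmul, hcomm, hmul]) hr hr' ?_)
      rw [← hmul]
      exact hidx (v * w) r r' (fun e => hw (by rw [map_mul, hr] at e; exact mul_left_cancel e))
        (fun e => hv' (by rw [map_mul, hr'] at e; exact mul_right_cancel e))
    have h3 := hno _ (hidx w r ⟨s, hs⟩ hw fun e => hv (hno _ e))
    rw [hcomm, hmul, hr] at h3
    exact hv h3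
  refine hcent (⟨s, hs⟩ * ⟨s', hs'⟩) (key _ (hidx v _ _ hv fun e => h2 (hcent _ (key _ e))))

/-- The second case: Klein four Sylow subgroups, abelian cores. -/
theorem klein_of_small (S : Sylow 2 G) (hcore : ∀ t : G, orderOf t = 2 → core t ≠ ⊥)
    (hsmall : ∀ x : G, orderOf x = p →
      ¬ Nat.card (S : Subgroup G) ∣ Nat.card (centralizer ({x} : Set G))) :
    Nat.card (S : Subgroup G) = 4 ∧ ∀ t ∈ (S : Subgroup G), orderOf t = 2 →
      (∀ a ∈ core t, ∀ b ∈ core t, Commute a b) ∧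
      ∀ u ∈ (S : Subgroup G), u ≠ 1 → u ≠ t → ∀ w ∈ core t, u * w * u⁻¹ = w⁻¹ := by
  haveI := Fact.mk h.hp
  let B : G → Subgroup G := fun t => (S : Subgroup G) ⊓ centralizer (core t : Set G)
  have htB : ∀ t ∈ (S : Subgroup G), t ∈ B t := fun t ht =>
    ⟨ht, mem_centralizer_iff.2 fun w hw => (core_commute hw).eq.symm⟩
  have hBne : ∀ t ∈ (S : Subgroup G), orderOf t = 2 → ¬ (S : Subgroup G) ≤ B t := by
    intro t htS ht hle
    obtain ⟨b, hb, hbo⟩ := H86.AllPrimePowerOrder.exists_orderOf_eq (h.core_isPGroup ht) (hcore t ht)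
    exact hsmall b hbo (Subgroup.card_dvd_of_le fun s hs =>
      mem_centralizer_singleton_iff.2 ((mem_centralizer_iff.1 (hle hs).2 b hb).symm))
  have hB2 : ∀ t ∈ (S : Subgroup G), orderOf t = 2 → Nat.card (S : Subgroup G) = 2 * Nat.card (B t) := by
    intro t htS ht
    obtain ⟨s0, hs0, hs0B⟩ := SetLike.not_le_iff_exists.1 (hBne t htS ht)
    have h1 : Nat.card (S : Subgroup G) ≤ 2 * Nat.card (B t) :=
      card_le_two_mul _ _ s0 fun s hs hsB => ⟨mul_mem hs0 hs,
        h.core_index S ht htS (hcore t ht) s0 hs0 s hs (fun e => hs0B ⟨hs0, e⟩)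
          fun e => hsB ⟨hs, e⟩⟩
    obtain ⟨k, hk⟩ := Subgroup.card_dvd_of_le (inf_le_left : B t ≤ (S : Subgroup G))
    have hk2 : k ≤ 2 := by
      rw [hk, mul_comm 2] at h1
      exact Nat.le_of_mul_le_mul_left h1 Nat.card_pos
    interval_cases k
    · exact absurd (hk.trans (mul_zero _)) Nat.card_pos.ne'
    · rw [mul_one] at hk
      exact absurd (Subgroup.eq_of_le_of_card_ge inf_le_left hk.le).ge (hBne t htS ht)
    · rw [hk, mul_comm]
  have heq : ∀ {t t' : G}, t ∈ (S : Subgroup G) → orderOf t = 2 → t' ∈ B t → t' ≠ 1 →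
      core t = core t' := by
    intro t t' htS ht ht' h1
    have ht'o : orderOf t' = 2 := orderOf_two_of_sq (h.sq_of_mem S.2 ht'.1) h1
    obtain ⟨α, hα⟩ := h.orb t' t (ht'o.trans ht.symm)
    refine Subgroup.eq_of_le_of_card_ge (fun w hw => ?_) (card_core_le α hα)
    rcases eq_or_ne w 1 with rfl | hw1
    · exact one_mem _
    · exact h.mem_core ht'o (hcore t' ht'o) (h.orderOf_of_mem (h.core_isPGroup ht) hw hw1)
        (mem_centralizer_iff.1 ht'.2 w hw).symm
  obtain ⟨t0, ht0⟩ : ∃ t0 : G, orderOf t0 = 2 := by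
    obtain ⟨b, hb⟩ := h.exists_p
    obtain ⟨t, ht, -⟩ := h.exists_involution hb
    exact ⟨t, ht⟩
  obtain ⟨T, hT⟩ := (IsPGroup.of_card (p := 2) (n := 1)
    (show Nat.card (zpowers t0) = 2 ^ 1 by rw [Nat.card_zpowers, ht0, pow_one])).exists_le_sylow
  obtain ⟨t, htS, ht⟩ : ∃ t ∈ (S : Subgroup G), orderOf t = 2 := by
    obtain ⟨g, hg⟩ := MulAction.exists_smul_eq G T S
    refine ⟨g * t0 * g⁻¹, ?_, by rw [H50.orderOf_conj, ht0]⟩
    rw [← hg]
    exact ⟨t0, hT (mem_zpowers t0), rfl⟩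
  have hS4 : Nat.card (S : Subgroup G) = 4 := by
    obtain ⟨u, huS, huB⟩ := SetLike.not_le_iff_exists.1 (hBne t htS ht)
    have hu1 : u ≠ 1 := fun e => huB (e ▸ one_mem _)
    have huo : orderOf u = 2 := orderOf_two_of_sq (h.sq_of_mem S.2 huS) hu1
    have hdis : B t ⊓ B u = ⊥ := by
      refine eq_bot_iff.2 fun z hz => ?_
      by_contra hz1
      refine huB ⟨huS, ?_⟩
      rw [heq htS ht hz.1 (fun e => hz1 (mem_bot.2 e)), ← heq huS huo hz.2 fun e => hz1 (mem_bot.2 e)]
      exact (htB u huS).2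
    have hinj : Nat.card (B t) * Nat.card (B u) ≤ Nat.card (S : Subgroup G) := by
      rw [← Nat.card_prod]
      refine Nat.card_le_card_of_injective
        (fun z => (⟨(z.1 : G) * z.2, mul_mem z.1.2.1 z.2.2.1⟩ : (S : Subgroup G))) ?_
      rintro ⟨a, b⟩ ⟨a', b'⟩ e
      replace e : (a : G) * b = (a' : G) * b' := congrArg Subtype.val e
      have e2 : (a' : G)⁻¹ * a = (b' : G) * (b : G)⁻¹ := by
        rw [eq_mul_inv_iff_mul_eq, mul_assoc, e, inv_mul_cancel_left]
      have h1 : (a' : G)⁻¹ * a ∈ B t ⊓ B u :=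
        ⟨(B t).mul_mem ((B t).inv_mem a'.2) a.2, e2 ▸ (B u).mul_mem b'.2 ((B u).inv_mem b.2)⟩
      rw [hdis, mem_bot] at h1
      have ha : a' = a := Subtype.ext (inv_mul_eq_one.1 h1)
      subst ha
      exact Prod.ext rfl (Subtype.ext (mul_left_cancel e))
    have h1 := hB2 t htS ht
    have h2 := hB2 u huS huo
    have hge : 2 ≤ Nat.card (B t) := by
      rw [← ht, ← orderOf_mk t (htB t htS)]
      exact Nat.le_of_dvd Nat.card_pos (orderOf_dvd_natCard _)
    have : Nat.card (B u) ≤ 2 := by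
      by_contra hc
      have : Nat.card (B t) * 3 ≤ Nat.card (B t) * Nat.card (B u) := Nat.mul_le_mul_left _ (by omega)
      omega
    omega
  refine ⟨hS4, fun t htS ht => ?_⟩
  have hinv : ∀ u ∈ (S : Subgroup G), u ≠ 1 → u ≠ t → ∀ w ∈ core t, u * w * u⁻¹ = w⁻¹ := by
    intro u huS hu1 hut
    refine fun w hw => fpf_inverts (h.sq_of_mem S.2 huS)
      (fun d hd => core_conj (sylow_le_centralizer h S htS huS) hd) (fun d hd hc => ?_) hw
    by_contra hd1
    refine hsmall d (h.orderOf_of_mem (h.core_isPGroup ht) hd hd1) (Subgroup.card_dvd_of_le ?_)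
    set K := (S : Subgroup G) ⊓ centralizer {d}
    have hle : Nat.card (S : Subgroup G) ≤ Nat.card K := by
      obtain ⟨k, hk⟩ := Subgroup.card_dvd_of_le (inf_le_left : K ≤ (S : Subgroup G))
      rw [hS4] at hk ⊢
      have h3 : ¬ Nat.card K ≤ 2 := fun hK => hut (eq_of_card_le_two hK
        ⟨huS, mem_centralizer_singleton_iff.2 hc.eq⟩
        ⟨htS, mem_centralizer_singleton_iff.2 (core_commute hd).eq⟩ hu1 (sq_of_orderOf_two ht).2)
      have : Nat.card K ∣ 4 := hk ▸ dvd_mul_right _ _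
      have := Nat.le_of_dvd (by norm_num) this
      interval_cases hK : Nat.card K <;> omega
    exact fun s hs => ((Subgroup.eq_of_le_of_card_ge inf_le_left hle).ge hs).2
  refine ⟨fun a ha b hb => ?_, hinv⟩
  obtain ⟨u, huS, huB⟩ := SetLike.not_le_iff_exists.1 (hBne t htS ht)
  have hu1 : u ≠ 1 := fun e => huB (e ▸ one_mem _)
  have hut : u ≠ t := fun e => huB (e ▸ htB t htS)
  have h1 := hinv u huS hu1 hut (a * b) (mul_mem ha hb)
  rw [show u * (a * b) * u⁻¹ = (u * a * u⁻¹) * (u * b * u⁻¹) by group, hinv u huS hu1 hut a ha,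
    hinv u huS hu1 hut b hb, mul_inv_rev] at h1
  have h2 := congrArg (·⁻¹) h1
  simp only [mul_inv_rev, inv_inv] at h2
  exact h2.symm

end TwoP

end Cfsg.Agent.H59.FiveOrbits
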