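import Cfsg.Agent.H59.FiveOrbits.Centraliser
import Cfsg.Agent.H69.Small4.Reduce
import Cfsg.Agent.H28.BaerSuzuki
import Cfsg.Agent.H6.Basic
import Cfsg.Agent.S0508
import Cfsg.Agent.S0811
import Cfsg.Agent.S0812

/-!
# Five automorphism orbits: no Klein four Sylow subgroup with an element of order `2p`
-/

set_option autoImplicit false
set_option linter.style.haveILetI false
set_option linter.unusedSectionVars false

namespace Cfsg.Agent.H59.FiveOrbits

open Subgroup PSLSeven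
open scoped commutatorElement

local instance factTwoKlein : Fact (Nat.Prime 2) := ⟨Nat.prime_two⟩

variable {G : Type*} [Group G] [Finite G] {p q : ℕ}

theorem odd_orderOf_of_pow {x : G} {n : ℕ} (hn : Odd n) (hx : x ^ n = 1) : Odd (orderOf x) :=
  hn.of_dvd_nat (orderOf_dvd_of_pow_eq_one hx)

namespace TwoP

/-- Two involution-commuting elements of order `p`: the structure of the centraliser of the second. -/
structure Cen (G : Type*) [Group G] (p : ℕ) (K : Subgroup G) (x t : G) : Prop where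
  pg : IsPGroup p K
  comm : ∀ k ∈ K, Commute k x
  cover : ∀ c : G, Commute c x → c ∈ K ∨ c * t ∈ K
  odd : ∀ c : G, Commute c x → Odd (orderOf c) → c ∈ K

variable (h : TwoP G p q)
include h

theorem cen_of_sylow (S : Sylow 2 G) (hS4 : Nat.card (S : Subgroup G) = 4)
    (hsmall : ∀ x : G, orderOf x = p →
      ¬ Nat.card (S : Subgroup G) ∣ Nat.card (centralizer ({x} : Set G)))
    [Fact p.Prime] (K : Sylow p G) {x t : G} (hx : orderOf x = p)
    (hK : ∀ k ∈ (K : Subgroup G), Commute k x) (ht : orderOf t = 2) (htx : Commute t x) :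
    Cen G p (K : Subgroup G) x t := by
  set C := centralizer ({x} : Set G) with hC
  have hKC : (K : Subgroup G) ≤ C := fun k hk => mem_centralizer_singleton_iff.2 (hK k hk).eq
  have htC : t ∈ C := mem_centralizer_singleton_iff.2 htx.eq
  have htK : t ∉ (K : Subgroup G) := fun e => by
    have := h.pow_eq_one K.2 e
    have hd := ht ▸ orderOf_dvd_of_pow_eq_one this
    exact h.hp2 ((Nat.prime_dvd_prime_iff_eq Nat.prime_two h.hp).1 hd).symm
  have hdvd : Nat.card C ∣ 2 * Nat.card (K : Subgroup G) := by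
    have hne : Nat.card C ≠ 0 := Nat.card_pos.ne'
    rw [← Nat.factorization_prime_le_iff_dvd hne (Nat.mul_ne_zero two_ne_zero Nat.card_pos.ne')]
    intro r hr
    rw [Nat.factorization_mul two_ne_zero Nat.card_pos.ne', Finsupp.add_apply,
      Nat.prime_two.factorization, K.card_eq_multiplicity, h.hp.factorization_pow]
    rcases eq_or_ne r 2 with rfl | hr2
    · rw [Finsupp.single_eq_same]
      refine le_trans ?_ (Nat.le_add_right 1 _)
      by_contra hc
      refine hsmall x hx ?_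
      rw [hS4, show 4 = 2 ^ 2 from rfl, Nat.prime_two.pow_dvd_iff_le_factorization hne]
      exact not_le.1 hc
    rw [Finsupp.single_eq_of_ne hr2, zero_add]
    rcases eq_or_ne r p with rfl | hrp
    · rw [Finsupp.single_eq_same]
      exact (Nat.factorization_le_iff_dvd hne Nat.card_pos.ne').2 C.card_subgroup_dvd_card r
    rw [Finsupp.single_eq_of_ne hrp, Nat.le_zero]
    refine Nat.factorization_eq_zero_of_not_dvd fun hd => ?_
    haveI := Fact.mk hr
    obtain ⟨⟨c, hc⟩, hco⟩ := exists_prime_orderOf_dvd_card' r hd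
    rw [orderOf_mk] at hco
    have hrq : r = q := ((h.prime_mem hr (hd.trans C.card_subgroup_dvd_card)).resolve_left hr2).resolve_left hrp
    exact h.not_commute (hco.trans hrq) (Or.inr hx) (mem_centralizer_singleton_iff.1 hc).symm
  have hidx : ((K : Subgroup G).subgroupOf C).index = 2 := by
    have h1 := ((K : Subgroup G).subgroupOf C).card_mul_index
    rw [Nat.card_congr (subgroupOfEquivOfLe hKC).toEquiv] at h1
    have h2 : ((K : Subgroup G).subgroupOf C).index ∣ 2 :=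
      Nat.dvd_of_mul_dvd_mul_left Nat.card_pos (by rw [h1, mul_comm _ 2]; exact hdvd)
    refine ((Nat.dvd_prime Nat.prime_two).1 h2).resolve_left fun e => ?_
    exact htK (subgroupOf_eq_top.1 (index_eq_one.1 e) htC)
  have cover : ∀ c : G, Commute c x → c ∈ (K : Subgroup G) ∨ c * t ∈ (K : Subgroup G) := by
    intro c hc
    by_cases hcK : c ∈ (K : Subgroup G)
    · exact Or.inl hcK
    have hcC : c ∈ C := mem_centralizer_singleton_iff.2 hc.eq
    exact Or.inr (mem_subgroupOf.1 ((mul_mem_iff_of_index_two hidx (a := ⟨c, hcC⟩) (b := ⟨t, htC⟩)).2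
      ⟨fun e => absurd (mem_subgroupOf.1 e) hcK, fun e => absurd (mem_subgroupOf.1 e) htK⟩))
  refine ⟨K.2, hK, cover, fun c hc hodd => ?_⟩
  obtain ⟨m, hm⟩ := hodd
  have hcC : c ∈ C := mem_centralizer_singleton_iff.2 hc.eq
  have h2 : c ^ 2 ∈ (K : Subgroup G) :=
    mem_subgroupOf.1 (sq_mem_of_index_two hidx (⟨c, hcC⟩ : C))
  have h3 := pow_mem h2 (m + 1)
  rwa [← pow_mul, show 2 * (m + 1) = orderOf c + 1 by omega, pow_succ, pow_orderOf_eq_one, one_mul] at h3

theorem exists_cen (S : Sylow 2 G) (hS4 : Nat.card (S : Subgroup G) = 4)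
    (hsmall : ∀ x : G, orderOf x = p →
      ¬ Nat.card (S : Subgroup G) ∣ Nat.card (centralizer ({x} : Set G)))
    [Fact p.Prime] {x t : G} (hx : orderOf x = p) (ht : orderOf t = 2) (htx : Commute t x) :
    ∃ K : Sylow p G, Cen G p (K : Subgroup G) x t := by
  obtain ⟨P⟩ : Nonempty (Sylow p G) := inferInstance
  haveI : Nontrivial (P : Subgroup G) := by
    refine (nontrivial_iff_ne_bot _).2 fun e => ?_
    have h1 := P.dvd_card_of_dvd_card (hx ▸ orderOf_dvd_natCard x)
    rw [e, Subgroup.card_bot, Nat.dvd_one] at h1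
    exact h.hp.ne_one h1
  haveI := P.2.center_nontrivial
  obtain ⟨z, hzc, hzo⟩ := H86.AllPrimePowerOrder.exists_orderOf_eq
    (P.2.to_subgroup (Subgroup.center (P : Subgroup G))) ((nontrivial_iff_ne_bot _).1 inferInstance)
  rw [← Subgroup.orderOf_coe] at hzo
  obtain ⟨α, hα⟩ := h.orb (z : G) x (hzo.trans hx.symm)
  let K : Sylow p G := Sylow.ofCard ((P : Subgroup G).map α.toMonoidHom) (by
    rw [← Nat.card_congr ((P : Subgroup G).equivMapOfInjective _ α.injective).toEquiv,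
      P.card_eq_multiplicity])
  refine ⟨K, h.cen_of_sylow S hS4 hsmall K hx ?_ ht htx⟩
  rintro _ ⟨y, hy, rfl⟩
  rw [← hα]
  exact ((show Commute (y : G) z from congrArg Subtype.val (mem_center_iff.1 hzc ⟨y, hy⟩))).map
    α.toMonoidHom

/-- The involutions centralising a central element of a Sylow subgroup normalised by `S`. -/
theorem exists_mem_core (S : Sylow 2 G) (hS4 : Nat.card (S : Subgroup G) = 4)
    (hsmall : ∀ x : G, orderOf x = p →
      ¬ Nat.card (S : Subgroup G) ∣ Nat.card (centralizer ({x} : Set G)))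
    (hcore : ∀ t : G, orderOf t = 2 → core t ≠ ⊥)
    [Fact p.Prime] (K : Sylow p G)
    (hSK : ∀ v ∈ (S : Subgroup G), ∀ k ∈ (K : Subgroup G), v * k * v⁻¹ ∈ (K : Subgroup G))
    {z : G} (hzo : orderOf z = p)
    (hz : ∀ k ∈ (K : Subgroup G), Commute k z) :
    ∃ v ∈ (S : Subgroup G), orderOf v = 2 ∧ z ∈ core v := by
  haveI := Fact.mk h.hq
  obtain ⟨s, hs, hsz⟩ := h.exists_involution hzo
  have hc := h.cen_of_sylow S hS4 hsmall K hzo hz hs hsz
  have hodd : ∀ {d : G}, d ∈ (K : Subgroup G) → Odd (orderOf d) := fun hd =>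
    odd_orderOf_of_pow (h.hp.odd_of_ne_two h.hp2) (h.pow_eq_one K.2 hd)
  set N := normalizer ((K : Subgroup G) : Set G) with hN
  have hsN : s ∈ N := mem_normalizer_fintype fun d hd => hc.odd _
    (((hsz.mul_left (hz d hd)).mul_left hsz.inv_left))
    (by rw [H50.orderOf_conj]; exact hodd hd)
  have hSN : (S : Subgroup G) ≤ N := fun v hv => mem_normalizer_fintype fun d hd => hSK v hv d hd
  set K' := (K : Subgroup G).subgroupOf N with hK'
  haveI : K'.Normal := (normal_subgroupOf_iff_le_normalizer le_normalizer).2 le_rfl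
  set W := N ⧸ K'
  let π := QuotientGroup.mk' K'
  have hpW : ¬ p ∣ Nat.card W := by
    have := (K.subtype (le_normalizer : (K : Subgroup G) ≤ N)).not_dvd_index
    rwa [Sylow.coe_subtype] at this
  have hsolv : Group.IsSolvable W := by
    refine H25.isSolvable_of_card_eq_mul_pow (a := (Nat.card W).factorization 2)
      (b := (Nat.card W / 2 ^ (Nat.card W).factorization 2).primeFactorsList.length)
      Nat.prime_two h.hq ?_
    conv_lhs => rw [← Nat.ordProj_mul_ordCompl_eq_self (Nat.card W) 2]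
    congr 1
    refine Nat.eq_prime_pow_of_unique_prime_dvd (Nat.ordCompl_pos 2 Nat.card_pos.ne').ne' ?_
    intro r hr hd
    have hr2 : r ≠ 2 := fun e => Nat.not_dvd_ordCompl Nat.prime_two Nat.card_pos.ne' (e ▸ hd)
    have hd' : r ∣ Nat.card W := hd.trans (Nat.ordCompl_dvd _ 2)
    have hdG : r ∣ Nat.card G :=
      (hd'.trans (Subgroup.card_quotient_dvd_card K')).trans N.card_subgroup_dvd_card
    exact ((h.prime_mem hr hdG).resolve_left hr2).resolve_left fun e => hpW (e ▸ hd')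
  haveI := hsolv
  let P : Sylow 2 W := (S.subtype hSN).mapSurjective (f := π) (QuotientGroup.mk'_surjective K')
  have hPmem : ∀ {a : W}, a ∈ (P : Subgroup W) → ∃ (v : G) (hv : v ∈ (S : Subgroup G)),
      π ⟨v, hSN hv⟩ = a := by
    rintro a ⟨⟨v, hvN⟩, hv, rfl⟩
    exact ⟨v, mem_subgroupOf.1 hv, rfl⟩
  have hPab : IsMulCommutative (P : Subgroup W) := by
    refine ⟨⟨fun a b => Subtype.ext ?_⟩⟩
    obtain ⟨v, hv, hva⟩ := hPmem a.2
    obtain ⟨v', hv', hvb⟩ := hPmem b.2
    show (a : W) * b = b * a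
    rw [← hva, ← hvb, ← map_mul, ← map_mul]
    exact congrArg π (Subtype.ext ((h.ea S.2).comm hv hv').eq)
  have hR : Cfsg.pPrimeCore 2 W = ⊥ := by
    set R := Cfsg.pPrimeCore 2 W
    haveI hRn : R.Normal := H19.pPrimeCore_normal 2 W
    have hRq : ∀ r ∈ R, r ≠ 1 → orderOf r = q := by
      intro r hr hr1
      have ho : Odd (orderOf r) := (Nat.coprime_two_right.1 (H19.pPrimeCore_coprime 2)).of_dvd_nat
        ((Subgroup.orderOf_mk r hr) ▸ orderOf_dvd_natCard (⟨r, hr⟩ : R))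
      obtain ⟨g, hg⟩ := QuotientGroup.mk'_surjective K' r
      have hd : orderOf r ∣ orderOf (g : G) := by
        rw [Subgroup.orderOf_coe, ← hg]; exact orderOf_map_dvd π g
      have h1 : orderOf r ≠ 1 := mt orderOf_eq_one_iff.1 hr1
      have hnp : ¬ p ∣ orderOf r := fun e => hpW (e.trans (orderOf_dvd_natCard r))
      have hg1 : (g : G) ≠ 1 := fun e => by
        rw [e, orderOf_one, Nat.dvd_one] at hd; exact h1 hd
      rcases h.ord g hg1 with e | e | e | e <;> rw [e] at hd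
      · rcases (Nat.dvd_prime Nat.prime_two).1 hd with e' | e'
        · exact absurd e' h1
        · rw [e'] at ho; exact absurd ho (by decide)
      · rcases (Nat.dvd_prime h.hp).1 hd with e' | e'
        · exact absurd e' h1
        · exact absurd (dvd_of_eq e'.symm) hnp
      · exact ((Nat.dvd_prime h.hq).1 hd).resolve_left h1
      · have : orderOf r ∣ p := (Nat.coprime_two_right.2 ho).dvd_of_dvd_mul_left hd
        rcases (Nat.dvd_prime h.hp).1 this with e' | e'
        · exact absurd e' h1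
        · exact absurd (dvd_of_eq e'.symm) hnp
    have hinv : ∀ (v : G) (hv : v ∈ (S : Subgroup G)), v ≠ 1 → ∀ r ∈ R,
        π ⟨v, hSN hv⟩ * r * (π ⟨v, hSN hv⟩)⁻¹ = r⁻¹ := by
      intro v hv hv1 r hr
      refine fpf_inverts ?_ (fun d hd => hRn.conj_mem d hd _) (fun d hd hc => ?_) hr
      · rw [← map_mul]
        exact (congrArg π (Subtype.ext (h.sq_of_mem S.2 hv))).trans (map_one π)
      by_contra hd1
      have hvK : π ⟨v, hSN hv⟩ ≠ 1 := fun e => by
        rw [QuotientGroup.mk'_apply, QuotientGroup.eq_one_iff, mem_subgroupOf] at e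
        have hd := orderOf_two_of_sq (h.sq_of_mem S.2 hv) hv1 ▸
          orderOf_dvd_of_pow_eq_one (h.pow_eq_one K.2 e)
        exact h.hp2 ((Nat.prime_dvd_prime_iff_eq Nat.prime_two h.hp).1 hd).symm
      have hv2 : orderOf (π ⟨v, hSN hv⟩) = 2 := orderOf_two_of_sq (by
        rw [← map_mul]
        exact (congrArg π (Subtype.ext (h.sq_of_mem S.2 hv))).trans (map_one π)) hvK
      obtain ⟨g, hg⟩ := QuotientGroup.mk'_surjective K' (π ⟨v, hSN hv⟩ * d)
      refine (h.not_mul_dvd (g := (g : G))).2 ?_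
      rw [Subgroup.orderOf_coe]
      refine dvd_trans (dvd_of_eq ?_) (orderOf_map_dvd π g)
      rw [hg, hc.orderOf_mul_eq_mul_orderOf_of_coprime, hv2, hRq d hd hd1]
      rw [hv2, hRq d hd hd1]
      exact (Nat.coprime_primes Nat.prime_two h.hq).2 (Ne.symm h.hq2)
    refine eq_bot_iff.2 fun r hr => mem_bot.2 ?_
    by_contra hr1
    haveI := Fintype.ofFinite (S : Subgroup G)
    obtain ⟨a, ha, ha1⟩ : ∃ a ∈ (S : Subgroup G), a ≠ 1 := by
      by_contra hc
      push Not at hc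
      have : (S : Subgroup G) = ⊥ := eq_bot_iff.2 fun a ha => mem_bot.2 (hc a ha)
      rw [this, Subgroup.card_bot] at hS4
      omega
    obtain ⟨b, hb, hb1, hba⟩ : ∃ b ∈ (S : Subgroup G), b ≠ 1 ∧ b ≠ a := by
      by_contra hc
      push Not at hc
      have hle : (S : Subgroup G) ≤ zpowers a := fun b hb => by
        rcases eq_or_ne b 1 with rfl | hb1
        · exact one_mem _
        · exact (hc b hb hb1) ▸ mem_zpowers a
      have := Subgroup.card_le_of_le hle
      rw [hS4, Nat.card_zpowers, orderOf_two_of_sq (h.sq_of_mem S.2 ha) ha1] at this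
      omega
    have hab1 : a * b ≠ 1 := fun e => hba (by
      rw [eq_inv_of_mul_eq_one_right e, inv_eq_self_of_sq (h.sq_of_mem S.2 ha)])
    have h1 := hinv (a * b) (mul_mem ha hb) hab1 r hr
    rw [show (⟨a * b, hSN (mul_mem ha hb)⟩ : N) = ⟨a, hSN ha⟩ * ⟨b, hSN hb⟩ from rfl, map_mul,
      show π ⟨a, hSN ha⟩ * π ⟨b, hSN hb⟩ * r * (π ⟨a, hSN ha⟩ * π ⟨b, hSN hb⟩)⁻¹ =
        π ⟨a, hSN ha⟩ * (π ⟨b, hSN hb⟩ * r * (π ⟨b, hSN hb⟩)⁻¹) * (π ⟨a, hSN ha⟩)⁻¹ by group,
      hinv b hb hb1 r hr, hinv a ha ha1 _ (inv_mem hr), inv_inv] at h1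
    have h2 : r * r = 1 := by nth_rewrite 1 [h1]; exact inv_mul_cancel r
    exact h.hq2 ((hRq r hr hr1).symm.trans (orderOf_two_of_sq h2 hr1))
  have hn := H19.sylow_sup_pPrimeCore_normal P hPab
  rw [hR, sup_bot_eq] at hn
  haveI := hn
  have hsP : π ⟨s, hsN⟩ ∈ (P : Subgroup W) := by
    have hss : π ⟨s, hsN⟩ * π ⟨s, hsN⟩ = 1 := by
      rw [← map_mul]
      exact (congrArg π (Subtype.ext (sq_of_orderOf_two hs).1)).trans (map_one π)
    rcases eq_or_ne (π ⟨s, hsN⟩) 1 with e | e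
    · rw [e]; exact one_mem _
    have hp2 : IsPGroup 2 (zpowers (π ⟨s, hsN⟩)) := IsPGroup.of_card (n := 1)
      (by rw [Nat.card_zpowers, orderOf_two_of_sq hss e, pow_one])
    have := P.3 (hp2.to_sup_of_normal_right P.2) le_sup_right
    exact this ▸ mem_sup_left (mem_zpowers _)
  obtain ⟨v, hv, hve⟩ := hPmem hsP
  have hk : v⁻¹ * s ∈ (K : Subgroup G) := mem_subgroupOf.1 (QuotientGroup.eq.1 hve)
  have hv1 : v ≠ 1 := fun e => by
    rw [e, inv_one, one_mul] at hk
    have hd := hodd hk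
    rw [hs] at hd
    exact absurd hd (by decide)
  have hvo := orderOf_two_of_sq (h.sq_of_mem S.2 hv) hv1
  refine ⟨v, hv, hvo, h.mem_core hvo (hcore v hvo) hzo ?_⟩
  have := hsz.mul_left (hz _ hk).inv_left
  rwa [mul_inv_rev, inv_inv, mul_inv_cancel_left] at this

/-- The odd core of an involution centraliser is a Sylow subgroup. -/
theorem core_sylow (S : Sylow 2 G) (hS4 : Nat.card (S : Subgroup G) = 4)
    (hsmall : ∀ x : G, orderOf x = p →
      ¬ Nat.card (S : Subgroup G) ∣ Nat.card (centralizer ({x} : Set G)))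
    (hcore : ∀ t : G, orderOf t = 2 → core t ≠ ⊥)
    (hk : ∀ t ∈ (S : Subgroup G), orderOf t = 2 →
      (∀ a ∈ core t, ∀ b ∈ core t, Commute a b) ∧
      ∀ u ∈ (S : Subgroup G), u ≠ 1 → u ≠ t → ∀ w ∈ core t, u * w * u⁻¹ = w⁻¹)
    [Fact p.Prime] {t : G} (htS : t ∈ (S : Subgroup G)) (ht : orderOf t = 2) :
    (∃ K : Sylow p G, (K : Subgroup G) = core t) ∧
      ∀ x ∈ core t, x ≠ 1 → ∀ c : G, Commute c x → c ∈ core t ∨ c * t ∈ core t := by
  have hpodd := h.hp.odd_of_ne_two h.hp2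
  have hS2 : ∀ {v : G}, v ∈ (S : Subgroup G) → v * v = 1 := fun hv => h.sq_of_mem S.2 hv
  have hSc : ∀ {v w : G}, v ∈ (S : Subgroup G) → w ∈ (S : Subgroup G) → Commute v w :=
    fun hv hw => (h.ea S.2).comm hv hw
  have hcp : ∀ {v : G}, orderOf v = 2 → IsPGroup p (core v) := fun hv => h.core_isPGroup hv
  have hmem : ∀ {v c : G}, orderOf v = 2 → c ^ p = 1 → Commute v c → c ∈ core v := fun hv hcp' hc =>
    h.odd_mem_core hv (hcore _ hv) (odd_orderOf_of_pow hpodd hcp') hc
  -- centraliser structures normalised by `S`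
  have hnorm : ∀ {v x : G} {K : Subgroup G}, v ∈ (S : Subgroup G) → orderOf v = 2 → x ∈ core v →
      Cen G p K x v → ∀ u ∈ (S : Subgroup G), ∀ k ∈ K, u * k * u⁻¹ ∈ K := by
    intro v x K hv hvo hx hK u hu k hk'
    refine hK.odd _ ?_ (by rw [H50.orderOf_conj]; exact odd_orderOf_of_pow hpodd (h.pow_eq_one hK.pg hk'))
    have hux : Commute (u * k * u⁻¹) (u * x * u⁻¹) := (Commute.conj_iff u).2 (hK.comm k hk')
    rcases eq_or_ne u 1 with rfl | hu1
    · simpa using hux
    rcases eq_or_ne u v with rfl | huv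
    · rwa [mul_inv_eq_iff_eq_mul.2 (core_commute hx).eq] at hux
    · rw [(hk v hv hvo).2 u hu hu1 huv x hx] at hux
      exact Commute.inv_right_iff.1 hux
  obtain ⟨x, hx, hxo⟩ := H86.AllPrimePowerOrder.exists_orderOf_eq (hcp ht) (hcore t ht)
  have hx1 : x ≠ 1 := fun e => by rw [e, orderOf_one] at hxo; exact h.hp.ne_one hxo.symm
  obtain ⟨K, hK⟩ := h.exists_cen S hS4 hsmall hxo ht (core_commute hx)
  have hSK := hnorm htS ht hx hK
  have hKp : ∀ {k : G}, k ∈ (K : Subgroup G) → k ^ p = 1 := fun hk' => h.pow_eq_one K.2 hk'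
  have hOK : ∀ o ∈ core t, o ∈ (K : Subgroup G) := fun o ho =>
    hK.odd o ((hk t htS ht).1 o ho x hx) (odd_orderOf_of_pow hpodd (h.pow_eq_one (hcp ht) ho))
  -- the centre lies in the core
  have hZ : ∀ z ∈ (K : Subgroup G), (∀ k ∈ (K : Subgroup G), Commute k z) → z ∈ core t := by
    intro z hzK hz
    rcases eq_or_ne z 1 with rfl | hz1
    · exact one_mem _
    obtain ⟨v, hv, hvo, hzv⟩ := h.exists_mem_core S hS4 hsmall hcore K hSK
      (h.orderOf_of_mem K.2 hzK hz1) hz
    rcases eq_or_ne v t with rfl | hvt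
    · exact hzv
    by_contra hzt
    have hxz : x * z ≠ 1 := fun e => hzt (eq_inv_of_mul_eq_one_right e ▸ inv_mem hx)
    have hxzK : x * z ∈ (K : Subgroup G) := mul_mem (hOK x hx) hzK
    obtain ⟨w, hw, hwo, hxzw⟩ := h.exists_mem_core S hS4 hsmall hcore K hSK
      (h.orderOf_of_mem K.2 hxzK hxz) fun k hk' => (hK.comm k hk').mul_right (hz k hk')
    have hwc : w * (x * z) * w⁻¹ = x * z := mul_inv_eq_iff_eq_mul.2 (core_commute hxzw).eq
    have hv1 := (sq_of_orderOf_two hvo).2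
    have ht1 := (sq_of_orderOf_two ht).2
    have hw1 := (sq_of_orderOf_two hwo).2
    rw [show w * (x * z) * w⁻¹ = (w * x * w⁻¹) * (w * z * w⁻¹) by group] at hwc
    rcases eq_or_ne w t with rfl | hwt
    · rw [mul_inv_eq_iff_eq_mul.2 (core_commute hx).eq, (hk v hv hvo).2 _ hw hw1 (Ne.symm hvt) z hzv]
        at hwc
      exact hz1 (h.eq_one_of_sq K.2 hzK (by nth_rewrite 1 [← mul_left_cancel hwc]; exact inv_mul_cancel z))
    rw [(hk t htS ht).2 w hw hw1 hwt x hx] at hwc
    rcases eq_or_ne w v with rfl | hwv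
    · rw [mul_inv_eq_iff_eq_mul.2 (core_commute hzv).eq] at hwc
      exact hx1 (h.eq_one_of_sq K.2 (hOK x hx)
        (by nth_rewrite 1 [← mul_right_cancel hwc]; exact inv_mul_cancel x))
    rw [(hk v hv hvo).2 w hw hw1 hwv z hzv, ← mul_inv_rev, ← (hz x (hOK x hx)).eq] at hwc
    exact hxz (h.eq_one_of_sq K.2 hxzK (by nth_rewrite 1 [← hwc]; exact inv_mul_cancel _))
  suffices hab : ∀ a ∈ (K : Subgroup G), ∀ b ∈ (K : Subgroup G), Commute a b by
    have hKO : (K : Subgroup G) = core t :=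
      le_antisymm (fun k hk' => hZ k hk' fun a ha => hab a ha k hk') hOK
    refine ⟨⟨K, hKO⟩, fun y hy hy1 c hc => ?_⟩
    have hKy := h.cen_of_sylow S hS4 hsmall K (h.orderOf_of_mem (hcp ht) hy hy1)
      (fun k hk' => hab k hk' y (hOK y hy)) ht (core_commute hy)
    rw [← hKO]
    exact hKy.cover c hc
  -- suppose the Sylow subgroup is not abelian
  by_contra hnab
  push Not at hnab
  obtain ⟨a0, ha0, b0, hb0, hab0⟩ := hnab
  -- the second centre
  let W : Subgroup G :=
    { carrier := {y | y ∈ (K : Subgroup G) ∧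
        ∀ k ∈ (K : Subgroup G), ∀ k' ∈ (K : Subgroup G), Commute ⁅y, k⁆ k'}
      one_mem' := ⟨one_mem _, fun k _ k' _ => by rw [commutatorElement_one_left]; exact Commute.one_left k'⟩
      mul_mem' := fun {a b} ha hb => ⟨mul_mem ha.1 hb.1, fun k hk' k' hk'' => by
        have e : ⁅a * b, k⁆ = a * ⁅b, k⁆ * a⁻¹ * ⁅a, k⁆ := by
          simp only [commutatorElement_def]; group
        rw [e, mul_inv_eq_iff_eq_mul.2 (hb.2 k hk' a ha.1).symm.eq]
        exact (hb.2 k hk' k' hk'').mul_left (ha.2 k hk' k' hk'')⟩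
      inv_mem' := fun {a} ha => ⟨inv_mem ha.1, fun k hk' k' hk'' => by
        have hc := (ha.2 k hk' a ha.1).inv_left
        have e : ⁅a⁻¹, k⁆ = a⁻¹ * ⁅a, k⁆⁻¹ * a := by
          simp only [commutatorElement_def]; group
        rw [e, mul_assoc, hc.eq, inv_mul_cancel_left]
        exact (ha.2 k hk' k' hk'').inv_left⟩ }
  have hWK : ∀ {y : G}, y ∈ W → y ∈ (K : Subgroup G) := fun hy => hy.1
  have hWO : ∀ {y k : G}, y ∈ W → k ∈ (K : Subgroup G) → ⁅y, k⁆ ∈ core t := fun {y k} hy hk' =>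
    hZ _ (by simp only [commutatorElement_def]; exact mul_mem (mul_mem (mul_mem hy.1 hk') (inv_mem hy.1)) (inv_mem hk'))
      fun k' hk'' => (hy.2 k hk' k' hk'').symm
  have hWconj : ∀ v ∈ (S : Subgroup G), ∀ y ∈ W, v * y * v⁻¹ ∈ W := by
    intro v hv y hy
    refine ⟨hSK v hv y hy.1, fun k hk' k' hk'' => ?_⟩
    have hvi : v⁻¹ = v := inv_eq_self_of_sq (hS2 hv)
    have e1 : ⁅v * y * v⁻¹, k⁆ = v * ⁅y, v * k * v⁻¹⁆ * v⁻¹ := by
      rw [hvi]; simp only [commutatorElement_def, mul_inv_rev, hvi]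
      simp only [mul_assoc]
      simp only [← mul_assoc v v, hS2 hv, one_mul, mul_one]
    have e2 : k' = v * (v * k' * v⁻¹) * v⁻¹ := by
      rw [hvi, show v * (v * k' * v) * v = (v * v) * k' * (v * v) by simp only [mul_assoc], hS2 hv,
        one_mul, mul_one]
    rw [e1, e2]
    exact (Commute.conj_iff v).2 (hy.2 _ (hSK v hv k hk') _ (hSK v hv k' hk''))
  have htinv : t⁻¹ = t := inv_eq_self_of_sq (sq_of_orderOf_two ht).1
  -- commutators with inverted elements vanish
  have hcomm : ∀ {a b : G}, a ∈ W → b ∈ (K : Subgroup G) →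
      ((t * a * t⁻¹ = a ∧ t * b * t⁻¹ = b⁻¹) ∨ (t * a * t⁻¹ = a⁻¹ ∧ t * b * t⁻¹ = b)) →
      Commute a b := by
    intro a b ha hb hcase
    have hcO := hWO ha hb
    have hfix : t * ⁅a, b⁆ * t⁻¹ = ⁅a, b⁆ := mul_inv_eq_iff_eq_mul.2 (core_commute hcO).eq
    have hca := (ha.2 b hb a ha.1)
    have hcb := (ha.2 b hb b hb)
    have hinv : t * ⁅a, b⁆ * t⁻¹ = ⁅a, b⁆⁻¹ := by
      rw [show t * ⁅a, b⁆ * t⁻¹ = ⁅t * a * t⁻¹, t * b * t⁻¹⁆ by
        simp only [commutatorElement_def]; group]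
      rcases hcase with ⟨e1, e2⟩ | ⟨e1, e2⟩ <;> rw [e1, e2]
      · rw [show ⁅a, b⁻¹⁆ = b⁻¹ * ⁅a, b⁆⁻¹ * b by simp only [commutatorElement_def]; group,
          mul_assoc, hcb.inv_left.eq, inv_mul_cancel_left]
      · rw [show ⁅a⁻¹, b⁆ = a⁻¹ * ⁅a, b⁆⁻¹ * a by simp only [commutatorElement_def]; group,
          mul_assoc, hca.inv_left.eq, inv_mul_cancel_left]
    rw [hfix] at hinv
    exact commutatorElement_eq_one_iff_commute.1 (h.eq_one_of_sq (hcp ht) hcO
      (by nth_rewrite 1 [hinv]; exact inv_mul_cancel _))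
  have hsplit : ∀ {v k : G}, v ∈ (S : Subgroup G) → k ∈ (K : Subgroup G) →
      ∃ r ∈ (K : Subgroup G), v * r * v⁻¹ = r⁻¹ ∧ Commute v (k * r) ∧
        (k ∈ W → r ∈ W) := by
    intro v k hv hk'
    obtain ⟨r, hr, h1, h2⟩ := split hpodd (hS2 hv) (hKp (mul_mem (inv_mem hk') (hSK v hv k hk')))
    exact ⟨r, zpowers_le.2 (mul_mem (inv_mem hk') (hSK v hv k hk')) hr, h1, h2, fun hkW =>
      zpowers_le.2 (W.mul_mem (W.inv_mem hkW) (hWconj v hv k hkW)) hr⟩
  have hWt : ∀ c ∈ W, Commute t c → ∀ k ∈ (K : Subgroup G), Commute k c := by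
    intro c hc htc k hk'
    obtain ⟨r, hr, hri, hrc, -⟩ := hsplit htS hk'
    have h1 : Commute (k * r) c := (hk t htS ht).1 _ (hmem ht (hKp (mul_mem hk' hr)) hrc) _
      (hmem ht (hKp hc.1) htc)
    have h2 : Commute c r := hcomm hc hr (Or.inl ⟨mul_inv_eq_iff_eq_mul.2 htc.eq, hri⟩)
    simpa using h1.mul_left h2.symm.inv_left
  obtain ⟨u0, hu0S, hu01, hu0t⟩ : ∃ b ∈ (S : Subgroup G), b ≠ 1 ∧ b ≠ t := by
    by_contra hc
    push Not at hc
    have hle : (S : Subgroup G) ≤ zpowers t := fun b hb => by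
      rcases eq_or_ne b 1 with rfl | hb1
      · exact one_mem _
      · exact (hc b hb hb1) ▸ mem_zpowers t
    have := Subgroup.card_le_of_le hle
    rw [hS4, Nat.card_zpowers, ht] at this
    omega
  -- an element of the second centre centralised by another involution
  obtain ⟨y, u, hyW, hyZ, huS, hu1, hut, hyu⟩ : ∃ y u : G, y ∈ W ∧
      (¬ ∀ k ∈ (K : Subgroup G), Commute k y) ∧ u ∈ (S : Subgroup G) ∧ u ≠ 1 ∧ u ≠ t ∧
      Commute u y := by
    obtain ⟨w, hwW, hwZ⟩ : ∃ w ∈ W, ¬ ∀ k ∈ (K : Subgroup G), Commute k w := by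
      haveI := K.2.isNilpotent
      set Z := Subgroup.center (K : Subgroup G)
      have hZne : Z ≠ ⊤ := fun e => hab0 (by
        have hb' : (⟨b0, hb0⟩ : (K : Subgroup G)) ∈ Z := e ▸ mem_top _
        exact congrArg Subtype.val (mem_center_iff.1 hb' ⟨a0, ha0⟩))
      haveI : Nontrivial ((K : Subgroup G) ⧸ Z) := by
        refine Finite.one_lt_card_iff_nontrivial.1 ?_
        have h1 : Nat.card ((K : Subgroup G) ⧸ Z) ≠ 1 := fun e => hZne (index_eq_one.1 e)
        have := Nat.card_pos (α := (K : Subgroup G) ⧸ Z)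
        omega
      haveI := (K.2.to_quotient Z).center_nontrivial
      obtain ⟨⟨q0, hq0⟩, hq01⟩ := exists_ne (1 : Subgroup.center ((K : Subgroup G) ⧸ Z))
      obtain ⟨⟨w, hw⟩, rfl⟩ := QuotientGroup.mk'_surjective Z q0
      refine ⟨w, ⟨hw, fun k hk' k' hk'' => ?_⟩, fun hc => hq01 (Subtype.ext ?_)⟩
      · have h1 : QuotientGroup.mk' Z ⁅(⟨w, hw⟩ : (K : Subgroup G)), ⟨k, hk'⟩⁆ = 1 := by
          rw [map_commutatorElement, commutatorElement_eq_one_iff_commute]
          exact (mem_center_iff.1 hq0 _).symm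
        rw [QuotientGroup.mk'_apply, QuotientGroup.eq_one_iff] at h1
        have := congrArg Subtype.val (mem_center_iff.1 h1 ⟨k', hk''⟩)
        exact this.symm
      · show QuotientGroup.mk' Z ⟨w, hw⟩ = 1
        rw [QuotientGroup.mk'_apply, QuotientGroup.eq_one_iff]
        exact mem_center_iff.2 fun k => Subtype.ext (hc k k.2).eq
    obtain ⟨r, hr, hri, hrc, hrW⟩ := hsplit htS hwW.1
    have hrW := hrW hwW
    have hrZ : ¬ ∀ k ∈ (K : Subgroup G), Commute k r := fun hc => hwZ fun k hk' => by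
      simpa using (hWt _ (mul_mem hwW hrW) hrc k hk').mul_right (hc k hk').inv_right
    obtain ⟨r', hr', hri', hrc', hrW'⟩ := hsplit hu0S hr
    by_cases hzc : ∀ k ∈ (K : Subgroup G), Commute k (r * r')
    · refine ⟨r, t * u0, hrW, hrZ, mul_mem htS hu0S, fun e => hu0t ?_,
        fun e => hu01 (mul_left_cancel (e.trans (mul_one t).symm)), ?_⟩
      · rw [eq_inv_of_mul_eq_one_right e, htinv]
      have hrr : r * r' ∈ core t := hZ _ (mul_mem hr hr') hzc
      have h1 := (hk t htS ht).2 u0 hu0S hu01 hu0t _ hrr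
      rw [mul_inv_eq_iff_eq_mul.2 hrc'.eq] at h1
      have h2 := h.eq_one_of_sq (hcp ht) hrr (by nth_rewrite 1 [h1]; exact inv_mul_cancel _)
      rw [eq_inv_of_mul_eq_one_right h2] at hri'
      refine mul_inv_eq_iff_eq_mul.1 ?_
      rw [show t * u0 * r * (t * u0)⁻¹ = t * (u0 * r⁻¹ * u0⁻¹)⁻¹ * t⁻¹ by group, hri', inv_inv,
        ← conj_inv, hri, inv_inv]
    · exact ⟨r * r', u0, mul_mem hrW (hrW' hrW), hzc, hu0S, hu01, hu0t, hrc'⟩
  have hyK := hWK hyW
  have hy1 : y ≠ 1 := fun e => hyZ fun k _ => e ▸ Commute.one_right k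
  have hyo := h.orderOf_of_mem K.2 hyK hy1
  have huo : orderOf u = 2 := orderOf_two_of_sq (hS2 huS) hu1
  have hyu' : y ∈ core u := hmem huo (hKp hyK) hyu
  have hty : t * y * t⁻¹ = y⁻¹ :=
    (hk u huS huo).2 t htS (sq_of_orderOf_two ht).2 (Ne.symm hut) y hyu'
  obtain ⟨Ky, hKy⟩ := h.exists_cen S hS4 hsmall hyo huo hyu
  set w := t * u with hw
  have hwS : w ∈ (S : Subgroup G) := mul_mem htS huS
  have hw1 : w ≠ 1 := fun e => hut (by rw [eq_inv_of_mul_eq_one_right e, htinv])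
  have hwo : orderOf w = 2 := orderOf_two_of_sq (hS2 hwS) hw1
  have hwt : w ≠ t := fun e => hu1 (mul_left_cancel (e.trans (mul_one t).symm))
  have hwu : w ≠ u := fun e => (sq_of_orderOf_two ht).2 (mul_right_cancel (e.trans (one_mul u).symm))
  -- the centraliser of y in the Sylow subgroup
  set E := (K : Subgroup G) ⊓ centralizer {y} with hEdef
  have hEmem : ∀ {e : G}, e ∈ E ↔ e ∈ (K : Subgroup G) ∧ Commute e y := fun {e} =>
    ⟨fun he => ⟨he.1, mem_centralizer_singleton_iff.1 he.2⟩,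
      fun he => ⟨he.1, mem_centralizer_singleton_iff.2 he.2.eq⟩⟩
  have hxE : x ∈ E := hEmem.2 ⟨hOK x hx, (hK.comm y hyK).symm⟩
  have hyE : y ∈ E := hEmem.2 ⟨hyK, Commute.refl y⟩
  have hOE : ∀ o ∈ core t, o ∈ E := fun o ho => hEmem.2 ⟨hOK o ho,
    (hcomm hyW (hOK o ho) (Or.inr ⟨hty, mul_inv_eq_iff_eq_mul.2 (core_commute ho).eq⟩)).symm⟩
  have hAE : ∀ a ∈ (K : Subgroup G), Commute u a → a ∈ E := fun a ha hc => hEmem.2 ⟨ha,
    (hk u huS huo).1 a (hmem huo (hKp ha) hc) y hyu'⟩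
  have hKE : ∀ k ∈ (K : Subgroup G), ∀ e ∈ E, k * e * k⁻¹ ∈ E := by
    intro k hk' e he
    obtain ⟨he1, he2⟩ := hEmem.1 he
    refine hEmem.2 ⟨mul_mem (mul_mem hk' he1) (inv_mem hk'), ?_⟩
    have hc := hyW.2 _ (inv_mem hk')
    have e3 : k⁻¹ * y * k = (⁅y, k⁻¹⁆)⁻¹ * y := by simp only [commutatorElement_def]; group
    have h3 : Commute e (k⁻¹ * y * k) := e3 ▸ (hc e he1).symm.inv_right.mul_right he2
    have h4 := (Commute.conj_iff k).2 h3
    rwa [show k * (k⁻¹ * y * k) * k⁻¹ = y by group] at h4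
  have hSE : ∀ v ∈ (S : Subgroup G), ∀ e ∈ E, v * e * v⁻¹ ∈ E := by
    intro v hv e he
    obtain ⟨he1, he2⟩ := hEmem.1 he
    refine hEmem.2 ⟨hSK v hv e he1, ?_⟩
    have h3 := (Commute.conj_iff v).2 he2
    rcases eq_or_ne v 1 with rfl | hv1
    · simpa using h3
    rcases eq_or_ne v u with rfl | hvu
    · rwa [mul_inv_eq_iff_eq_mul.2 hyu.eq] at h3
    · rw [(hk u huS huo).2 v hv hv1 hvu y hyu'] at h3
      exact Commute.inv_right_iff.1 h3
  set F := E ⊓ centralizer (E : Set G) with hFdef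
  have hFc : ∀ {f e : G}, f ∈ F → e ∈ E → Commute e f := fun hf he => mem_centralizer_iff.1 hf.2 _ he
  have hxF : x ∈ F := ⟨hxE, mem_centralizer_iff.2 fun e he => (hK.comm e he.1).eq⟩
  have hyF : y ∈ F := ⟨hyE, mem_centralizer_iff.2 fun e he => (hEmem.1 he).2.eq⟩
  have hnF : ∀ {g : G}, g ∈ normalizer (E : Set G) → g ∈ normalizer (F : Set G) := by
    intro g hg
    refine mem_normalizer_fintype fun f hf => ⟨(mem_normalizer_iff.1 hg f).1 hf.1, ?_⟩
    refine mem_centralizer_iff.2 fun e he => ?_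
    have h1 := (Commute.conj_iff g).2 (hFc hf ((mem_normalizer_iff''.1 hg e).1 he))
    rw [show g * (g⁻¹ * e * g) * g⁻¹ = e by group] at h1
    exact h1.eq
  have hKF : (K : Subgroup G) ≤ normalizer (F : Set G) := fun k hk' =>
    hnF (mem_normalizer_fintype fun e he => hKE k hk' e he)
  have hSF : (S : Subgroup G) ≤ normalizer (F : Set G) := fun v hv =>
    hnF (mem_normalizer_fintype fun e he => hSE v hv e he)
  have hfw : ∀ f ∈ F, Commute w f → f = 1 := by
    intro f hf hc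
    have hfw' : f ∈ core w := hmem hwo (hKp hf.1.1) hc
    have hfZ : ∀ k ∈ (K : Subgroup G), Commute k f := by
      intro k hk'
      obtain ⟨r, hr, hri, hrc, -⟩ := hsplit htS hk'
      obtain ⟨r', hr', hri', hrc', -⟩ := hsplit huS hr
      set a := r * r' with ha
      have haE : a ∈ E := hAE a (mul_mem hr hr') hrc'
      have hr'e : r' = r⁻¹ * a := by rw [ha]; group
      have hy' : r'⁻¹ * (w * r' * w⁻¹) ∈ E := by
        have e : r'⁻¹ * (w * r' * w⁻¹) = (r'⁻¹ * (t * a * t⁻¹)⁻¹ * r') * a⁻¹ := by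
          have e1 : w * r' * w⁻¹ = t * (u * r' * u⁻¹) * t⁻¹ := by rw [hw]; group
          rw [e1, hri', show t * r'⁻¹ * t⁻¹ = (t * a * t⁻¹)⁻¹ * (t * r * t⁻¹) by rw [hr'e]; group, hri,
            show r⁻¹ = r' * a⁻¹ by rw [hr'e]; group]
          group
        rw [e]
        refine mul_mem ?_ (inv_mem haE)
        have h2 := hKE r'⁻¹ (inv_mem hr') _ (inv_mem (hSE t htS a haE))
        rwa [inv_inv] at h2
      obtain ⟨r'', hr'', -, hrc''⟩ := split hpodd (hS2 hwS) (hKp hy'.1)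
      have hr''E : r'' ∈ E := zpowers_le.2 hy' hr''
      have h1 : Commute (r' * r'') f := (hk w hwS hwo).1 _
        (hmem hwo (hKp (mul_mem hr' hr''E.1)) hrc'') f hfw'
      have h2 : Commute r' f := by simpa using h1.mul_left (hFc hf hr''E).inv_left
      have h3 : Commute r f := by simpa [ha] using (hFc hf haE).mul_left h2.inv_left
      have h4 : Commute (k * r) f := hFc hf (hOE _ (hmem ht (hKp (mul_mem hk' hr)) hrc))
      simpa using h4.mul_left h3.inv_left
    have hfO : f ∈ core t := hZ f hf.1.1 hfZ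
    have h1 := (hk t htS ht).2 w hwS hw1 hwt f hfO
    rw [mul_inv_eq_iff_eq_mul.2 hc.eq] at h1
    exact h.eq_one_of_sq (hcp ht) hfO (by nth_rewrite 1 [h1]; exact inv_mul_cancel f)
  have hwinv : ∀ f ∈ F, w * f * w⁻¹ = f⁻¹ := fun f hf =>
    fpf_inverts (hS2 hwS) (fun d hd => (mem_normalizer_iff.1 (hSF hwS) d).1 hd) hfw hf
  set CF := centralizer (F : Set G) with hCF
  have hCFE : ∀ c ∈ CF, c ∈ E := by
    intro c hc
    have hcx : Commute c x := (mem_centralizer_iff.1 hc x hxF).symm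
    have hcy : Commute c y := (mem_centralizer_iff.1 hc y hyF).symm
    rcases hK.cover c hcx with hcK | hctK
    · exact hEmem.2 ⟨hcK, hcy⟩
    exfalso
    refine hyZ fun k hk' => ?_
    set k1 := c * t
    have hck : c = k1 * t := by
      show c = c * t * t
      rw [mul_assoc, (sq_of_orderOf_two ht).1, mul_one]
    have h1 := mul_inv_eq_iff_eq_mul.2 hcy.eq
    rw [hck, show k1 * t * y * (k1 * t)⁻¹ = k1 * (t * y * t⁻¹) * k1⁻¹ by group, hty] at h1
    have h2 : Commute k (⁅y⁻¹, k1⁆) := ((W.inv_mem hyW).2 k1 hctK k hk').symm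
    have e : ⁅y⁻¹, k1⁆ = y⁻¹ * y⁻¹ := by
      calc ⁅y⁻¹, k1⁆ = y⁻¹ * (k1 * y⁻¹ * k1⁻¹)⁻¹ := by simp only [commutatorElement_def]; group
        _ = y⁻¹ * y⁻¹ := by rw [h1]
    rw [e] at h2
    obtain ⟨m, hm⟩ := hpodd
    have hyp := hKp hyK
    have h3 : Commute k ((y⁻¹ * y⁻¹) ^ (m + 1)) := h2.pow_right _
    rw [← pow_two, ← pow_mul, show 2 * (m + 1) = p + 1 by omega, pow_succ, inv_pow, hyp, inv_one,
      one_mul] at h3
    exact Commute.inv_right_iff.1 h3
  have hCFp : IsPGroup p CF := (K.2.to_le inf_le_left).to_le hCFE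
  set O' := core w ⊓ normalizer (F : Set G) with hO'
  set P := CF ⊔ O' with hP
  have hNC : ∀ {g : G}, g ∈ normalizer (F : Set G) → ∀ c ∈ CF, g * c * g⁻¹ ∈ CF := by
    intro g hg c hc
    refine mem_centralizer_iff.2 fun f hf => ?_
    have h1 := (Commute.conj_iff g).2
      (show Commute (g⁻¹ * f * g) c from mem_centralizer_iff.1 hc _ ((mem_normalizer_iff''.1 hg f).1 hf))
    rw [show g * (g⁻¹ * f * g) * g⁻¹ = f by group] at h1
    exact h1.eq
  have hPp : IsPGroup p P := hCFp.to_sup_of_normal_left' ((hcp hwo).to_le inf_le_left)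
    fun g hg => mem_normalizer_fintype fun c hc => hNC hg.2 c hc
  have hPS : ∀ v ∈ (S : Subgroup G), ∀ a ∈ P, v * a * v⁻¹ ∈ P := by
    intro v hv a ha
    refine (show P ≤ P.comap (MulAut.conj v).toMonoidHom from sup_le (fun c hc => ?_) fun o ho => ?_) ha
    · exact (mem_sup_left (hNC (hSF hv) c hc) : v * c * v⁻¹ ∈ P)
    · exact (mem_sup_right (show v * o * v⁻¹ ∈ O' from
        ⟨core_conj (sylow_le_centralizer h S hwS hv) ho.1,
          (normalizer (F : Set G)).mul_mem ((normalizer (F : Set G)).mul_mem (hSF hv) ho.2) ((normalizer (F : Set G)).inv_mem (hSF hv))⟩) : v * o * v⁻¹ ∈ P)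
  have hall : ∀ g : G, g ^ p = 1 → g ∈ normalizer (F : Set G) → g ∈ P := by
    intro g hgp hg
    have hgi : g⁻¹ ∈ normalizer (F : Set G) := inv_mem hg
    have hy' : g⁻¹ * (w * g * w⁻¹) ∈ CF := by
      refine mem_centralizer_iff.2 fun f hf => ?_
      have e1 : (w * g * w⁻¹) * f * (w * g * w⁻¹)⁻¹ = g * f * g⁻¹ := by
        have hwf : w⁻¹ * f * w = f⁻¹ := by
          have := hwinv f hf
          rw [inv_eq_self_of_sq (hS2 hwS)] at this ⊢
          exact this
        have hgf : g * f⁻¹ * g⁻¹ ∈ F := (mem_normalizer_iff.1 hg _).1 (inv_mem hf)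
        rw [show w * g * w⁻¹ * f * (w * g * w⁻¹)⁻¹ = w * (g * (w⁻¹ * f * w) * g⁻¹) * w⁻¹ by group,
          hwf, hwinv _ hgf]
        group
      refine (mul_inv_eq_iff_eq_mul.1 ?_).symm
      calc g⁻¹ * (w * g * w⁻¹) * f * (g⁻¹ * (w * g * w⁻¹))⁻¹ =
          g⁻¹ * ((w * g * w⁻¹) * f * (w * g * w⁻¹)⁻¹) * g := by group
        _ = f := by rw [e1]; group
    obtain ⟨r, hr, -, hrc⟩ := split hpodd (hS2 hwS) (h.pow_eq_one hCFp hy')
    have hrC : r ∈ CF := zpowers_le.2 hy' hr
    have hrN : r ∈ normalizer (F : Set G) := mem_normalizer_fintype fun f hf => by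
      rw [← mem_centralizer_iff.1 hrC f hf, mul_inv_cancel_right]; exact hf
    obtain ⟨s, hs, o, ho, hso⟩ := h.centralizer_eq S hwo hwS (hcore w hwo)
      (mem_centralizer_singleton_iff.2 hrc.symm.eq)
    have hoN : o ∈ normalizer (F : Set G) := by
      have := mul_mem (inv_mem (hSF hs)) (hso ▸ mul_mem hg hrN)
      rwa [inv_mul_cancel_left] at this
    have hoP : o ∈ P := mem_sup_right ⟨ho, hoN⟩
    have hpP : o * r⁻¹ ∈ P := mul_mem hoP (mem_sup_left (inv_mem hrC))
    have hge : g = s * (o * r⁻¹) := by rw [← mul_assoc, hso]; group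
    have hg2 : g ^ 2 ∈ P := by
      rw [pow_two]
      nth_rewrite 1 [hge]
      rw [hge, show s * (o * r⁻¹) * (s * (o * r⁻¹)) = (s * (o * r⁻¹) * s⁻¹) * (s * s) * (o * r⁻¹) by group,
        hS2 hs, mul_one]
      exact mul_mem (hPS s hs _ hpP) hpP
    obtain ⟨m, hm⟩ := hpodd
    have h3 := pow_mem hg2 (m + 1)
    rwa [← pow_mul, show 2 * (m + 1) = p + 1 by omega, pow_succ, hgp, one_mul] at h3
  -- an element normalising E outside the Sylow subgroup
  have hEKy : E ≤ (Ky : Subgroup G) := fun e he =>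
    hKy.odd e (hEmem.1 he).2 (odd_orderOf_of_pow hpodd (hKp he.1))
  have hEne : E ≠ (Ky : Subgroup G) := fun e => hyZ fun k hk' => by
    have h1 : Nat.card (K : Subgroup G) ≤ Nat.card E :=
      le_of_eq ((K.card_eq_multiplicity.trans Ky.card_eq_multiplicity.symm).trans
        (congrArg (fun H : Subgroup G => Nat.card H) e.symm))
    exact (hEmem.1 ((Subgroup.eq_of_le_of_card_ge inf_le_left h1).ge hk')).2
  obtain ⟨g, hgK, hgE, hgn⟩ := H28.exists_mem_normalizer_not_mem Ky.2 hEKy hEne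
  have hgP : g ∈ P := hall g (h.pow_eq_one Ky.2 hgK) (hnF hgn)
  have hKP : ∀ k ∈ (K : Subgroup G), k ∈ P := fun k hk' => hall k (hKp hk') (hKF hk')
  have hPF : P ≤ normalizer (F : Set G) := sup_le (fun c hc => mem_normalizer_fintype fun f hf => by
    rw [← mem_centralizer_iff.1 hc f hf, mul_inv_cancel_right]; exact hf) inf_le_right
  haveI : (F.subgroupOf P).Normal :=
    (normal_subgroupOf_iff_le_normalizer (show F ≤ P from fun f hf => hKP f hf.1.1)).2 hPF
  obtain ⟨⟨f, hfP⟩, hfF, hfc, hfo⟩ := H24.exists_central_orderOf hPp (N := F.subgroupOf P) fun e => hx1 (by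
    have h1 : (⟨x, hKP x (hOK x hx)⟩ : P) ∈ F.subgroupOf P := mem_subgroupOf.2 hxF
    rw [e, mem_bot] at h1
    exact congrArg Subtype.val h1)
  rw [orderOf_mk] at hfo
  have hfcom : ∀ a ∈ P, Commute a f := fun a ha => congrArg Subtype.val (mem_center_iff.1 hfc ⟨a, ha⟩)
  have hfK : f ∈ (K : Subgroup G) := (mem_subgroupOf.1 hfF).1.1
  have hfO : f ∈ core t := hZ f hfK fun k hk' => hfcom k (hKP k hk')
  have hKf := h.cen_of_sylow S hS4 hsmall K hfo (fun k hk' => hfcom k (hKP k hk')) ht (core_commute hfO)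
  have hgKK := hKf.odd g (hfcom g hgP) (odd_orderOf_of_pow hpodd (h.pow_eq_one Ky.2 hgK))
  exact hgE (hEmem.2 ⟨hgKK, hKy.comm g hgK⟩)

/-- The Klein case leads to `PSL₂` in odd characteristic, hence to a contradiction. -/
theorem false_of_klein [IsSimpleGroup G] (hG : ¬ IsMulCommutative G) (S : Sylow 2 G)
    (hcore : ∀ t : G, orderOf t = 2 → core t ≠ ⊥)
    (hsmall : ∀ x : G, orderOf x = p →
      ¬ Nat.card (S : Subgroup G) ∣ Nat.card (centralizer ({x} : Set G))) : False := by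
  haveI := Fact.mk h.hp
  obtain ⟨hS4, hk⟩ := h.klein_of_small S hcore hsmall
  haveI : Nontrivial (S : Subgroup G) := Finite.one_lt_card_iff_nontrivial.1 (by omega)
  obtain ⟨t, htS, ht⟩ := H86.AllPrimePowerOrder.exists_orderOf_eq S.2
    ((nontrivial_iff_ne_bot _).1 inferInstance)
  obtain ⟨⟨K, hKO⟩, hcent⟩ := h.core_sylow S hS4 hsmall hcore hk htS ht
  set O := core t with hO
  have hOne : O ≠ ⊥ := hcore t ht
  have hS2 : ∀ {v : G}, v ∈ (S : Subgroup G) → v * v = 1 := fun hv => h.sq_of_mem S.2 hv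
  haveI : IsKleinFour (S : Subgroup G) := ⟨hS4, by
    haveI : Nontrivial (S : Subgroup G) := inferInstance
    refine Nat.dvd_antisymm (Monoid.exponent_dvd_of_forall_pow_eq_one fun v => ?_) ?_
    · rw [pow_two]; exact Subtype.ext (hS2 v.2)
    · have := Monoid.order_dvd_exponent (⟨t, htS⟩ : (S : Subgroup G))
      rwa [orderOf_mk, ht] at this⟩
  have hB : ∀ s ∈ (S : Subgroup G), s ∈ centralizer (O : Set G) → s = 1 ∨ s = t := by
    intro s hs hc
    by_contra hne
    push Not at hne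
    obtain ⟨b, hb, hbo⟩ := H86.AllPrimePowerOrder.exists_orderOf_eq (h.core_isPGroup ht) hOne
    have h1 := (hk t htS ht).2 s hs hne.1 hne.2 b hb
    rw [mul_inv_eq_iff_eq_mul.2 (mem_centralizer_iff.1 hc b hb).symm] at h1
    have := h.eq_one_of_sq (h.core_isPGroup ht) hb (by nth_rewrite 1 [h1]; exact inv_mul_cancel b)
    rw [this, orderOf_one] at hbo
    exact h.hp.ne_one hbo.symm
  have ht1 := (sq_of_orderOf_two ht).2
  have hBe : (S : Subgroup G) ⊓ centralizer (O : Set G) = zpowers t := by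
    refine le_antisymm (fun s hs => ?_) (zpowers_le.2 ⟨htS, mem_centralizer_iff.2 fun w hw =>
      (core_commute hw).eq.symm⟩)
    rcases hB s hs.1 hs.2 with rfl | rfl
    exacts [one_mem _, mem_zpowers _]
  obtain ⟨e2⟩ : Nonempty ((S : Subgroup G) ≃* DihedralGroup 2) := IsKleinFour.nonempty_mulEquiv
  obtain ⟨F, iF, iFt, hodd, ⟨e⟩⟩ := S0508.result S 2 le_rfl ⟨e2⟩ t ht htS
    (fun s hs => ((h.ea S.2).comm hs htS).eq) O rfl
    (fun _ => ⟨hBe ▸ inferInstance, by
      rw [hBe, Subgroup.relIndex]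
      have h1 := ((zpowers t).subgroupOf (S : Subgroup G)).card_mul_index
      rw [Nat.card_congr (subgroupOfEquivOfLe (zpowers_le.2 htS)).toEquiv, Nat.card_zpowers, ht, hS4] at h1
      omega⟩)
    (fun s hs hsc => (hk t htS ht).2 s hs (fun e => hsc (e ▸ one_mem _))
      fun e => hsc (mem_centralizer_iff.2 fun w hw => e ▸ (core_commute hw).eq.symm))
    (fun Y hY hY1 n hn => by
      obtain ⟨⟨y, hy⟩, hy1⟩ := @exists_ne Y ((nontrivial_iff_ne_bot Y).2 hY1) 1
      have hy1' : y ≠ 1 := fun e => hy1 (Subtype.ext e)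
      set t' := n * t * n⁻¹
      have hc : Commute t' y := by
        have h1 : n⁻¹ * y * n ∈ Y := (mem_normalizer_iff''.1 hn y).1 hy
        have h2 := (Commute.conj_iff n).2 (core_commute (hY h1))
        rwa [show n * (n⁻¹ * y * n) * n⁻¹ = y by group] at h2
      have ht' : orderOf t' = 2 := by rw [H50.orderOf_conj, ht]
      have htt : t' = t := by
        rcases hcent y (hY hy) hy1' t' hc with hc' | hc'
        · have := h.orderOf_of_mem (h.core_isPGroup ht) hc' (sq_of_orderOf_two ht').2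
          rw [ht'] at this
          exact absurd this.symm h.hp2
        · have h1 : Commute t (t' * t) := core_commute hc'
          have h2 : Commute t t' := by
            simpa [mul_assoc, (sq_of_orderOf_two ht).1] using h1.mul_right (Commute.refl t)
          have h3 := h.eq_one_of_sq (h.core_isPGroup ht) hc' (by
            rw [show t' * t * (t' * t) = t' * (t * t') * t by group, h2.eq,
              show t' * (t' * t) * t = (t' * t') * (t * t) by group, (sq_of_orderOf_two ht').1,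
              (sq_of_orderOf_two ht).1, mul_one])
          rw [eq_inv_of_mul_eq_one_left h3, inv_eq_self_of_sq (sq_of_orderOf_two ht).1]
      exact mem_centralizer_singleton_iff.2 (mul_inv_eq_iff_eq_mul.1 htt))
  -- element orders in `PSL₂`
  obtain ⟨r, hr⟩ := CharP.exists F
  haveI := Fact.mk (CharP.char_is_prime F r)
  obtain ⟨f, -, hQ⟩ := FiniteField.card F r
  haveI : Finite (Matrix.ProjectiveSpecialLinearGroup (Fin 2) F) := Finite.of_equiv _ e.toEquiv
  have hcard := H6.card_psl2_mul (F := F) (q := Fintype.card F) rfl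
  rw [← Nat.card_congr e.toEquiv] at hcard
  set Q := Fintype.card F with hQdef
  have hQ2 : 2 ≤ Q := Fintype.one_lt_card
  have hQo : Q % 2 = 1 := Nat.odd_iff.1 hodd
  have hg : Nat.gcd 2 (Q - 1) = 2 := Nat.gcd_eq_left (by omega)
  rw [hg] at hcard
  have hsz : ¬ 8 ∣ Nat.card G := fun h8 => by
    have h3 : 3 ≤ (Nat.card G).factorization 2 :=
      (Nat.prime_two.pow_dvd_iff_le_factorization Nat.card_pos.ne').1 (by simpa using h8)
    have := S.card_eq_multiplicity
    rw [hS4] at this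
    have h8' := Nat.pow_le_pow_right two_pos h3
    omega
  have hord : ∀ {n : ℕ}, (∃ g : Matrix.ProjectiveSpecialLinearGroup (Fin 2) F, orderOf g = n) →
      n = 1 ∨ n = 2 ∨ n = p ∨ n = q ∨ n = 2 * p := by
    rintro n ⟨g, rfl⟩
    rcases eq_or_ne g 1 with rfl | hg1
    · exact Or.inl orderOf_one
    · rw [← MulEquiv.orderOf_eq e.symm g]
      exact Or.inr (h.ord _ fun e' => hg1 (e.symm.injective (e'.trans (map_one _).symm)))
  by_cases hsmallQ : Q = 3 ∨ Q = 5
  · -- the orders twelve and sixty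
    obtain ⟨b, hb⟩ := h.exists_p
    have hp35 : Nat.card G ∣ 60 := by
      rcases hsmallQ with e' | e' <;> rw [e'] at hcard
      · exact ⟨5, by omega⟩
      · exact ⟨1, by omega⟩
    have hpd : p ∣ 60 := (hb ▸ orderOf_dvd_natCard b).trans hp35
    have hp5 : p = 3 ∨ p = 5 := by
      have h1 : p ∣ 2 ^ 2 * 3 * 5 := by norm_num; exact hpd
      rcases h.hp.dvd_mul.1 h1 with h1 | h1
      · rcases h.hp.dvd_mul.1 h1 with h1 | h1
        · exact absurd ((Nat.prime_dvd_prime_iff_eq h.hp Nat.prime_two).1 (h.hp.dvd_of_dvd_pow h1)) h.hp2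
        · exact Or.inl ((Nat.prime_dvd_prime_iff_eq h.hp Nat.prime_three).1 h1)
      · exact Or.inr ((Nat.prime_dvd_prime_iff_eq h.hp (by norm_num)).1 h1)
    have hn : Nat.card (Sylow p G) * (4 * Nat.card (K : Subgroup G)) ∣ Nat.card G := by
      rw [K.card_eq_index_normalizer]
      set N := normalizer ((K : Subgroup G) : Set G)
      rw [← N.index_mul_card]
      refine mul_dvd_mul_left _ ?_
      refine Nat.Coprime.mul_dvd_of_dvd_of_dvd ?_ (hS4 ▸ Subgroup.card_dvd_of_le fun s hs => ?_)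
        (Subgroup.card_dvd_of_le le_normalizer)
      · rw [K.card_eq_multiplicity, show (4 : ℕ) = 2 ^ 2 from rfl]
        exact Nat.coprime_pow_primes _ _ Nat.prime_two h.hp (Ne.symm h.hp2)
      · exact mem_normalizer_fintype fun d hd => by
          rw [hKO] at hd ⊢
          exact core_conj (sylow_le_centralizer h S htS hs) hd
    have hKp : p ∣ Nat.card (K : Subgroup G) :=
      K.dvd_card_of_dvd_card (hb ▸ orderOf_dvd_natCard b)
    have h1 := card_sylow_modEq_one p G
    have h2 : Nat.card (Sylow p G) * (4 * p) ∣ 60 :=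
      ((mul_dvd_mul_left _ (mul_dvd_mul_left 4 hKp)).trans hn).trans hp35
    have h3 : Nat.card (Sylow p G) = 1 := by
      have hle := Nat.le_of_dvd (by norm_num) ((dvd_mul_right _ _).trans h2)
      rw [Nat.ModEq] at h1
      rcases hp5 with rfl | rfl <;> interval_cases hN : Nat.card (Sylow _ G) <;> omega
    rw [K.card_eq_index_normalizer, index_eq_one] at h3
    haveI := normalizer_eq_top_iff.1 h3
    rcases (inferInstance : (K : Subgroup G).Normal).eq_bot_or_eq_top with hb' | ht'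
    · exact hOne (hKO ▸ hb')
    · have hall : ∀ a : G, a ∈ core t := fun a => by
        show a ∈ O
        rw [← hKO, ht']; exact mem_top a
      exact hG ⟨⟨fun a b => ((hk t htS ht).1 a (hall a) b (hall b)).eq⟩⟩
  push Not at hsmallQ
  have h79 : Q ≠ 7 ∧ Q ≠ 9 ∧ Q ≠ 11 := by
    refine ⟨fun e' => hsz ?_, fun e' => hsz ?_, fun e' => ?_⟩ <;> rw [e'] at hcard
    · exact ⟨21, by omega⟩
    · exact ⟨45, by omega⟩
    · have hG660 : Nat.card G = 660 := by omega
      have hm : ∀ {s : ℕ}, s.Prime → s ≠ 2 → s ∣ 660 → s = p ∨ s = q := fun hs hs2 hd =>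
        (h.prime_mem hs (hG660 ▸ hd)).resolve_left hs2
      rcases hm Nat.prime_three (by norm_num) (by norm_num) with e3 | e3 <;>
        rcases hm (s := 5) (by norm_num) (by norm_num) (by norm_num) with e5 | e5 <;>
        rcases hm (s := 11) (by norm_num) (by norm_num) (by norm_num) with e11 | e11 <;> omega
  obtain ⟨H1, -, ⟨eH1⟩⟩ := S0811.result (F := F) rfl
    (by simp only [Finset.mem_insert, Finset.mem_singleton]; omega)
  obtain ⟨H2, -, ⟨eH2⟩⟩ := S0812.result (F := F) rfl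
    (by simp only [Finset.mem_insert, Finset.mem_singleton]; omega)
  have o1 := hord ⟨(eH1.symm (DihedralGroup.r 1) : Matrix.ProjectiveSpecialLinearGroup (Fin 2) F),
    by rw [Subgroup.orderOf_coe, MulEquiv.orderOf_eq, DihedralGroup.orderOf_r_one]⟩
  have o2 := hord ⟨(eH2.symm (DihedralGroup.r 1) : Matrix.ProjectiveSpecialLinearGroup (Fin 2) F),
    by rw [Subgroup.orderOf_coe, MulEquiv.orderOf_eq, DihedralGroup.orderOf_r_one]⟩
  rw [← hQdef, hg] at o1 o2
  have hrQ : r ∣ Q := hQ ▸ dvd_pow_self r f.pos.ne'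
  have hr' := h.prime_mem (CharP.char_is_prime F r) (by
    have h1 : r ∣ Nat.card G * 2 := hcard ▸ Dvd.dvd.mul_right hrQ _
    refine ((CharP.char_is_prime F r).dvd_mul.1 h1).resolve_right fun h2 => ?_
    rw [(Nat.prime_dvd_prime_iff_eq (CharP.char_is_prime F r) Nat.prime_two).1 h2] at hrQ
    omega)
  have hp3 := h.hp.two_le
  have hq3 := h.hq.two_le
  have hp2 := h.hp2
  have hq2 := h.hq2
  have hpq := h.hpq
  have hpo : p % 2 = 1 := Nat.odd_iff.1 (h.hp.odd_of_ne_two hp2)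
  have hqo : q % 2 = 1 := Nat.odd_iff.1 (h.hq.odd_of_ne_two hq2)
  have hr2 : r ≠ 2 := fun e' => by rw [e'] at hrQ; omega
  have hnr : ∀ {n : ℕ}, (n = Q + 1 ∨ n = Q - 1) → ¬ r ∣ n := by
    intro n hn hd
    have h1 := (CharP.char_is_prime F r).one_lt
    rcases hn with rfl | rfl
    · have := Nat.le_of_dvd one_pos ((Nat.dvd_add_right hrQ).1 hd); omega
    · have h2 := Nat.dvd_sub hrQ hd
      rw [show Q - (Q - 1) = 1 by omega, Nat.dvd_one] at h2
      omega
  have key : ∀ {s : ℕ}, s ≠ 1 → s ∣ (Q + 1) / 2 → s ∣ (Q - 1) / 2 → False := by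
    intro s hs h1 h2
    have h3 := Nat.dvd_sub h1 h2
    rw [show (Q + 1) / 2 - (Q - 1) / 2 = 1 by omega, Nat.dvd_one] at h3
    exact hs h3
  rcases hr'.resolve_left hr2 with rfl | rfl
  · have n1 : ¬ r ∣ (Q + 1) / 2 := fun hd => hnr (Or.inl rfl) (hd.trans (Nat.div_dvd_of_dvd (by omega)))
    have n2 : ¬ r ∣ (Q - 1) / 2 := fun hd => hnr (Or.inr rfl) (hd.trans (Nat.div_dvd_of_dvd (by omega)))
    rcases o1 with e1 | e1 | e1 | e1 | e1
    all_goals first
      | (exact n1 (e1 ▸ dvd_rfl)) | (exact n1 (e1 ▸ dvd_mul_left r 2)) | skip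
    all_goals rcases o2 with e3 | e3 | e3 | e3 | e3
    all_goals first
      | (exact n2 (e3 ▸ dvd_rfl)) | (exact n2 (e3 ▸ dvd_mul_left r 2)) | omega
  · rcases o1 with e1 | e1 | e1 | e1 | e1
    all_goals first
      | (exact hnr (Or.inl rfl) ((e1 ▸ dvd_rfl : r ∣ (Q + 1) / 2).trans (Nat.div_dvd_of_dvd (by omega))))
      | skip
    all_goals rcases o2 with e3 | e3 | e3 | e3 | e3
    all_goals first
      | (exact hnr (Or.inr rfl) ((e3 ▸ dvd_rfl : r ∣ (Q - 1) / 2).trans (Nat.div_dvd_of_dvd (by omega))))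
      | (exact key h.hp.ne_one (e1 ▸ dvd_mul_left p 2) (e3 ▸ dvd_rfl))
      | (exact key h.hp.ne_one (e1 ▸ dvd_rfl) (e3 ▸ dvd_mul_left p 2))
      | omega

end TwoP

end Cfsg.Agent.H59.FiveOrbits
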