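import Cfsg.Agent.H59.FiveOrbits.Centraliser
import Cfsg.Agent.H69.Small4.Reduce

/-!
# Five automorphism orbits: no strongly embedded Sylow normaliser with an element of order `2p`
-/

set_option autoImplicit false
set_option linter.style.haveILetI false
set_option linter.unusedSectionVars false

namespace Cfsg.Agent.H59.FiveOrbits

open Subgroup MulAction PSLSeven

local instance factTwoSE : Fact (Nat.Prime 2) := ⟨Nat.prime_two⟩

variable {G : Type*} [Group G] [Finite G] {p q : ℕ}

theorem eq_one_of_odd_pow_four {c : G} (h4 : c ^ 4 = 1) (hodd : Odd (orderOf c)) : c = 1 :=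
  orderOf_eq_one_iff.1 (Nat.eq_one_of_dvd_coprimes ((Nat.coprime_two_right.2 hodd).pow_right 2)
    dvd_rfl (orderOf_dvd_of_pow_eq_one h4))

theorem TwoP.false_of_se [IsSimpleGroup G] (h : TwoP G p q) (hG : ¬ IsMulCommutative G)
    (S : Sylow 2 G)
    (hS : ∀ t ∈ (S : Subgroup G), orderOf t = 2 →
      centralizer ({t} : Set G) ≤ normalizer ((S : Subgroup G) : Set G)) : False := by
  haveI := Fact.mk h.hp
  haveI := Fact.mk h.hq
  have hnc : ¬ IsCyclic G := fun hc => hG ⟨⟨fun a b => by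
    letI := hc.commGroup
    exact mul_comm a b⟩⟩
  obtain ⟨x0, hx0⟩ := h.exists_p
  obtain ⟨t0, ht0, -⟩ := h.exists_involution hx0
  have heven : 2 ∣ Nat.card G := ht0 ▸ orderOf_dvd_natCard t0
  have hS1 : (S : Subgroup G) ≠ ⊥ := fun e => by
    have := S.dvd_card_of_dvd_card heven
    rw [e, Subgroup.card_bot] at this
    omega
  set M := normalizer ((S : Subgroup G) : Set G) with hMdef
  have hSM : (S : Subgroup G) ≤ M := le_normalizer
  have hMne : M ≠ ⊤ := fun e => by
    haveI := normalizer_eq_top_iff.1 e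
    rcases (inferInstance : (S : Subgroup G).Normal).eq_bot_or_eq_top with hb | ht
    · exact hS1 hb
    · exact hG ⟨⟨fun a b => ((h.ea S.2).comm (ht ▸ mem_top a) (ht ▸ mem_top b)).eq⟩⟩
  have hmemS : ∀ m ∈ M, m * m = 1 → m ∈ (S : Subgroup G) := by
    intro m hm hmm
    rcases eq_or_ne m 1 with rfl | hm1
    · exact one_mem _
    have hp2 : IsPGroup 2 (zpowers m) := IsPGroup.of_card (n := 1)
      (by rw [Nat.card_zpowers, orderOf_two_of_sq hmm hm1, pow_one])
    have := S.3 (hp2.to_sup_of_normal_right' S.2 (zpowers_le.2 hm)) le_sup_right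
    exact this ▸ mem_sup_left (mem_zpowers m)
  have hM : Cfsg.IsStronglyEmbedded M := by
    refine H28.isStronglyEmbedded_of_normalizer_le hMne (S.subtype hSM) ?_ fun X hX hX1 => ?_
    · rw [Sylow.coe_subtype]
      exact fun e => hS1 ((subgroupOf_eq_bot.1 e).eq_bot_of_le hSM)
    · rw [Sylow.coe_subtype] at hX
      set Y := X.map M.subtype
      have hYS : Y ≤ (S : Subgroup G) :=
        (Subgroup.map_mono hX).trans (by rw [map_subgroupOf_eq_of_le hSM])
      obtain ⟨t, htY, ht⟩ := H28.exists_involution_of_isPGroup (S.2.to_le hYS)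
        fun e => hX1 ((Subgroup.map_eq_bot_iff_of_injective X M.subtype_injective).1 e)
      intro n hn
      refine mem_normalizer_fintype fun s hs => hmemS _ (hS t (hYS htY) ht ?_) ?_
      · refine mem_centralizer_singleton_iff.2 ?_
        have h1 : n⁻¹ * t * n ∈ Y := (mem_normalizer_iff''.1 hn t).1 htY
        have h2 := ((h.ea S.2).comm hs (hYS h1)).map (MulAut.conj n).toMonoidHom
        simp only [MulEquiv.coe_toMonoidHom, MulAut.conj_apply,
          show n * (n⁻¹ * t * n) * n⁻¹ = t by group] at h2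
        exact h2.eq
      · rw [show n * s * n⁻¹ * (n * s * n⁻¹) = n * (s * s) * n⁻¹ by group, h.sq_of_mem S.2 hs]
        group
  have hinv : Nat.card {t : G // orderOf t = 2 ∧ t ∈ M} + 1 = Nat.card (S : Subgroup G) := by
    have e : {t : G | orderOf t = 2 ∧ t ∈ M} = ((S : Subgroup G) : Set G) \ {1} := by
      ext t
      constructor
      · rintro ⟨ht, htM⟩
        exact ⟨hmemS t htM (sq_of_orderOf_two ht).1, (sq_of_orderOf_two ht).2⟩
      · rintro ⟨ht, ht1⟩
        exact ⟨orderOf_two_of_sq (h.sq_of_mem S.2 ht) ht1, hSM ht⟩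
    have h1 := Set.ncard_sdiff_singleton_add_one (one_mem (S : Subgroup G) : (1 : G) ∈ _)
      (Set.toFinite ((S : Subgroup G) : Set G))
    rw [← e, ← Nat.card_coe_set_eq, ← Nat.card_coe_set_eq] at h1
    exact h1
  have hS4 : 3 ≤ Nat.card (S : Subgroup G) := by
    by_contra hc
    have hS2 : Nat.card (S : Subgroup G) = 2 := by
      have := Finite.one_lt_card_iff_nontrivial.2 ((nontrivial_iff_ne_bot _).2 hS1)
      omega
    haveI : IsCyclic (S : Subgroup G) := isCyclic_of_prime_card hS2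
    obtain ⟨H, hH⟩ := H28.exists_index_two_of_cyclic_sylow (even_iff_two_dvd.2 heven) S
      (by infer_instance)
    exact H69.Small4.simple_no_index_two hnc H hH
  -- points
  have hstab : ∀ x : G ⧸ M, Nat.card (stabilizer G x) = Nat.card M := by
    intro x
    obtain ⟨g, rfl⟩ := QuotientGroup.mk_surjective x
    have e : stabilizer G (g : G ⧸ M) = M.map (MulAut.conj g).toMonoidHom := by
      rw [show (g : G ⧸ M) = g • ((1 : G) : G ⧸ M) by
        rw [MulAction.Quotient.smul_coe, smul_eq_mul, mul_one],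
        stabilizer_smul_eq_stabilizer_map_conj, stabilizer_quotient]
    rw [e]
    exact Nat.card_congr (M.equivMapOfInjective _ (MulAut.conj g).injective).toEquiv.symm
  have hfixM : ∀ {c g : G}, c • (g : G ⧸ M) = (g : G ⧸ M) → g⁻¹ * c * g ∈ M := fun {c g} hc => by
    rw [MulAction.Quotient.smul_coe, smul_eq_mul, QuotientGroup.eq, mul_inv_rev] at hc
    simpa [mul_assoc] using M.inv_mem hc
  have hnofix : ∀ {u c : G} {w : G ⧸ M}, orderOf u = 2 → u * c * u⁻¹ = c⁻¹ → u • w = w →
      c • w = w → c ^ 4 = 1 := by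
    intro u c w hu hi huw hcw
    obtain ⟨g, rfl⟩ := QuotientGroup.mk_surjective w
    obtain ⟨huu, -⟩ := sq_of_orderOf_two hu
    have hus : g⁻¹ * u * g ∈ (S : Subgroup G) := hmemS _ (hfixM huw) (by
      rw [show g⁻¹ * u * g * (g⁻¹ * u * g) = g⁻¹ * (u * u) * g by group, huu]; group)
    have h1 := (mem_normalizer_iff.1 (hfixM hcw) _).1 hus
    have h2 := mul_mem h1 (inv_mem hus)
    rw [show g⁻¹ * c * g * (g⁻¹ * u * g) * (g⁻¹ * c * g)⁻¹ * (g⁻¹ * u * g)⁻¹ =
      g⁻¹ * (c * (u * c * u⁻¹)⁻¹) * g by group, hi, inv_inv] at h2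
    have h3 := h.sq_of_mem S.2 h2
    rw [show g⁻¹ * (c * c) * g * (g⁻¹ * (c * c) * g) = g⁻¹ * c ^ 4 * g by
      simp only [show (4 : ℕ) = 3 + 1 from rfl, pow_succ, pow_zero]; group] at h3
    calc c ^ 4 = g * (g⁻¹ * c ^ 4 * g) * g⁻¹ := by group
      _ = 1 := by rw [h3]; group
  have hfixed : ∀ {t : G}, orderOf t = 2 → ∃ w : G ⧸ M, t • w = w := by
    intro t ht
    obtain ⟨s, hsM, hs⟩ := H28.exists_involution_mem hM.2.1
    obtain ⟨g, hg⟩ := isConj_iff.1 (H50.se_isConj hM hs ht)
    refine ⟨(g : G ⧸ M), ?_⟩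
    rw [← hg, MulAction.Quotient.smul_coe, smul_eq_mul, inv_mul_cancel_right, QuotientGroup.eq,
      mul_inv_rev, inv_mul_cancel_right]
    exact inv_mem hsM
  -- no real elements of order `p`
  have hnoreal : ∀ {x u : G}, orderOf x = p → orderOf u = 2 → u * x * u⁻¹ ≠ x⁻¹ := by
    intro x u hx hu hi
    have hx1 : x ≠ 1 := fun e => by rw [e, orderOf_one] at hx; exact h.hp.ne_one hx.symm
    obtain ⟨t, ht, htc⟩ := h.exists_involution hx
    obtain ⟨w, hw⟩ := hfixed ht
    have hxw : x • w = w := H50.se_centralizer_fix hM ht htc.symm hw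
    by_cases huw : u • w = w
    · exact hx1 (eq_one_of_odd_pow_four (hnofix hu hi huw hxw) (hx ▸ h.hp.odd_of_ne_two h.hp2))
    · refine hx1 (H50.se_swap_rigid hM ht hu (Ne.symm huw) hw rfl hxw ?_ hi htc)
      have e : x * u = u * x⁻¹ := by
        have := congrArg (·⁻¹) hi
        simp only [mul_inv_rev, inv_inv] at this
        calc x * u = (u * (x⁻¹ * u⁻¹)) * u := by rw [this]
          _ = u * x⁻¹ := by group
      rw [smul_smul, e, mul_smul, inv_smul_eq_iff.2 hxw.symm]
  let D : (G ⧸ M) → (G ⧸ M) → Subgroup G := fun x y => stabilizer G x ⊓ stabilizer G y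
  have hDconj : ∀ {u : G} {a b : G ⧸ M}, u • a = b → u • b = a → ∀ d ∈ D a b, u * d * u⁻¹ ∈ D a b := by
    rintro u a b hua hub d ⟨hda, hdb⟩
    exact ⟨show (u * d * u⁻¹) • a = a by
        rw [mul_smul, mul_smul, inv_smul_eq_iff.2 hub.symm, show d • b = b from hdb, hub],
      show (u * d * u⁻¹) • b = b by
        rw [mul_smul, mul_smul, inv_smul_eq_iff.2 hua.symm, show d • a = a from hda, hua]⟩
  have hDodd : ∀ {a b : G ⧸ M}, a ≠ b → ∀ d ∈ D a b, Odd (orderOf d) := fun hab d hd =>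
    H50.se_odd_of_two_fixed hM hab hd.1 hd.2
  have hswap : ∀ {a b : G ⧸ M}, a ≠ b → ∃ u : G, orderOf u = 2 ∧ u • a = b := by
    intro a b hab
    obtain ⟨⟨u, hu⟩⟩ : Nonempty {i : G // orderOf i = 2 ∧ i • a = b} :=
      (Nat.card_pos_iff.1 (by rw [H50.se_card_swap hM hab]; omega)).1
    exact ⟨u, hu⟩
  have hswapc : ∀ {a b : G ⧸ M}, a ≠ b → ∀ x ∈ D a b, orderOf x = p →
      ∃ u : G, orderOf u = 2 ∧ u • a = b ∧ Commute u x := by
    intro a b hab x hx hxo
    set E := D a b with hE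
    obtain ⟨P, hP⟩ := (IsPGroup.of_card (p := p) (n := 1)
      (show Nat.card (zpowers (⟨x, hx⟩ : E)) = p ^ 1 by
        rw [Nat.card_zpowers, orderOf_mk, hxo, pow_one])).exists_le_sylow
    obtain ⟨u0, hu0, hu0a⟩ := hswap hab
    have hu0b : u0 • b = a := H50.smul_swap hu0 hu0a
    let σ : E →* E :=
      { toFun := fun d => ⟨u0 * d * u0⁻¹, hDconj hu0a hu0b d d.2⟩
        map_one' := Subtype.ext (by simp)
        map_mul' := fun c d => Subtype.ext (by simp [mul_assoc]) }
    have hσ : Function.Injective σ := fun c d e =>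
      Subtype.ext (mul_left_cancel (mul_right_cancel (congrArg Subtype.val e)))
    have hcard : Nat.card ((P : Subgroup E).map σ) = Nat.card P :=
      Nat.card_congr ((P : Subgroup E).equivMapOfInjective _ hσ).toEquiv.symm
    obtain ⟨R, hR⟩ := (P.2.map σ).exists_le_sylow
    have hRe : (P : Subgroup E).map σ = (R : Subgroup E) := Subgroup.eq_of_le_of_card_ge hR
      (by rw [hcard, R.card_eq_multiplicity, P.card_eq_multiplicity])
    obtain ⟨d, hd⟩ := MulAction.exists_smul_eq E R P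
    set n := (d : G) * u0 with hn
    have hnP : ∀ z ∈ (P : Subgroup E), ∃ z' ∈ (P : Subgroup E), (z' : G) = n * z * n⁻¹ := by
      intro z hz
      have h1 : σ z ∈ (R : Subgroup E) := hRe ▸ ⟨z, hz, rfl⟩
      refine ⟨d * σ z * d⁻¹, ?_, ?_⟩
      · rw [← hd]; exact ⟨σ z, h1, rfl⟩
      · show (d : G) * (u0 * z * u0⁻¹) * (d : G)⁻¹ = _
        rw [hn]; group
    have hna : n • a = b := by rw [hn, mul_smul, hu0a]; exact d.2.2
    have hnb : n • b = a := by rw [hn, mul_smul, hu0b]; exact d.2.1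
    have hnev : Even (orderOf n) := by
      rcases Nat.even_or_odd (orderOf n) with he | ⟨m, hm⟩
      · exact he
      exfalso
      have h2 : (n ^ 2) ^ m • a = a := MulAction.mem_stabilizer_iff.1
        (pow_mem (MulAction.mem_stabilizer_iff.2 (by rw [pow_two, mul_smul, hna, hnb])) m)
      have h3 : n ^ orderOf n • a = b := by rw [hm, pow_succ', pow_mul, mul_smul, h2, hna]
      rw [pow_orderOf_eq_one, one_smul] at h3
      exact hab h3
    obtain ⟨j, hj⟩ := even_iff_two_dvd.1 hnev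
    have hpos := orderOf_pos n
    set u := n ^ j with hu_def
    have hu : orderOf u = 2 := by
      rw [hu_def, orderOf_pow_of_dvd (by omega) ⟨2, by rw [hj, mul_comm]⟩, hj,
        Nat.mul_div_cancel _ (by omega)]
    have hua : u • a = b ∧ u • b = a := by
      have key : ∀ k : ℕ, (n ^ k • a = a ∧ n ^ k • b = b) ∨ (n ^ k • a = b ∧ n ^ k • b = a) := by
        intro k
        induction k with
        | zero => left; simp
        | succ k ih =>
          rcases ih with ⟨e1, e2⟩ | ⟨e1, e2⟩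
          · right; rw [pow_succ', mul_smul n (n ^ k), mul_smul n (n ^ k), e1, e2]; exact ⟨hna, hnb⟩
          · left; rw [pow_succ', mul_smul n (n ^ k), mul_smul n (n ^ k), e1, e2]; exact ⟨hnb, hna⟩
      rcases key j with ⟨e1, e2⟩ | e
      · exact absurd (H50.se_fix_unique hM hu e1 e2) hab
      · exact e
    refine ⟨u, hu, hua.1, ?_⟩
    have huP : ∀ (k : ℕ), ∀ z ∈ (P : Subgroup E),
        ∃ z' ∈ (P : Subgroup E), (z' : G) = n ^ k * z * (n ^ k)⁻¹ := by
      intro k
      induction k with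
      | zero => exact fun z hz => ⟨z, hz, by simp⟩
      | succ k ih =>
        intro z hz
        obtain ⟨z', hz', e⟩ := ih z hz
        obtain ⟨z'', hz'', e'⟩ := hnP z' hz'
        exact ⟨z'', hz'', by rw [e', e, pow_succ']; group⟩
    obtain ⟨z', hz', e⟩ := huP j ⟨x, hx⟩ (hP (mem_zpowers _))
    rw [← hu_def] at e
    have hy : x⁻¹ * (u * x * u⁻¹) = 1 := by
      by_contra hy1
      have hmem : ((⟨x, hx⟩ : E)⁻¹ * z') ∈ (P : Subgroup E) :=
        mul_mem (inv_mem (hP (mem_zpowers _))) hz'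
      have hyo : orderOf (x⁻¹ * (u * x * u⁻¹)) = p := by
        have := h.orderOf_of_mem (P.2.map E.subtype) (mem_map_of_mem E.subtype hmem)
          (by show x⁻¹ * (z' : G) ≠ 1; rw [e]; exact hy1)
        simpa [e] using this
      refine hnoreal hyo hu ?_
      rw [show u * (x⁻¹ * (u * x * u⁻¹)) * u⁻¹ = u * x⁻¹ * u⁻¹ * ((u * u) * x * (u * u)⁻¹) by group,
        (sq_of_orderOf_two hu).1]
      group
    exact (mul_inv_eq_iff_eq_mul.1 (inv_mul_eq_one.1 hy).symm)
  -- elements of order `p` fix one point only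
  have hfix1 : ∀ {x : G} {a b : G ⧸ M}, orderOf x = p → x • a = a → x • b = b → a = b := by
    intro x a b hx hxa hxb
    by_contra hab
    obtain ⟨s, hs, hsc⟩ := h.exists_involution hx
    obtain ⟨w, hw⟩ := hfixed hs
    have hxw : x • w = w := H50.se_centralizer_fix hM hs hsc.symm hw
    obtain ⟨c, hc, hwc⟩ : ∃ c : G ⧸ M, x • c = c ∧ w ≠ c := by
      rcases eq_or_ne w a with e | e
      · exact ⟨b, hxb, e ▸ hab⟩
      · exact ⟨a, hxa, e⟩
    obtain ⟨u, hu, huw, huc⟩ := hswapc hwc x ⟨hxw, hc⟩ hx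
    have hodd : Odd (orderOf (s * u)) := H50.se_odd hM hs hu hw (huw ▸ fun e => hwc e.symm)
    have hne : s * u ≠ 1 := fun e => by
      have : u = s := by
        rw [eq_inv_of_mul_eq_one_right e, inv_eq_self_of_sq (sq_of_orderOf_two hs).1]
      rw [this, hw] at huw
      exact hwc huw
    have hzo := h.orderOf_eq_p (Or.inr hx) (hsc.symm.mul_right huc.symm) hodd hne
    exact hnoreal hzo hs (H50.conj_prod_left hs hu)
  -- two-point stabilisers
  have hDq : ∀ {a b : G ⧸ M}, a ≠ b → ∀ d ∈ D a b, d ≠ 1 → orderOf d = q := by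
    intro a b hab d hd hd1
    have hodd := hDodd hab d hd
    rcases h.ord d hd1 with e | e | e | e
    · rw [e] at hodd; exact absurd hodd (by decide)
    · exact absurd (hfix1 e hd.1 hd.2) hab
    · exact e
    · rw [e] at hodd; exact absurd hodd (by simp)
  have hDinv : ∀ {a b : G ⧸ M} {u : G}, a ≠ b → orderOf u = 2 → u • a = b → ∀ d ∈ D a b,
      u * d * u⁻¹ = d⁻¹ := by
    intro a b u hab hu hua d hd
    refine fpf_inverts (sq_of_orderOf_two hu).1 (hDconj hua (H50.smul_swap hu hua))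
      (fun e he hc => ?_) hd
    by_contra he1
    exact h.not_commute (hDq hab e he he1) (Or.inl hu) hc
  obtain ⟨g0, -, hg0⟩ := SetLike.exists_of_lt (lt_top_iff_ne_top.2 hMne)
  set a : G ⧸ M := ((1 : G) : G ⧸ M)
  set b : G ⧸ M := (g0 : G ⧸ M)
  have hab : a ≠ b := fun e => hg0 (by simpa using QuotientGroup.eq.1 e)
  obtain ⟨u0, hu0, hu0a⟩ := hswap hab
  obtain ⟨hu0u, hu01⟩ := sq_of_orderOf_two hu0
  have hu0' : u0⁻¹ = u0 := inv_eq_self_of_sq hu0u
  have hDc : Nat.card (D a b) + 1 = Nat.card (S : Subgroup G) := by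
    rw [← hinv, ← H50.se_card_swap hM hab]
    congr 1
    refine Nat.card_congr
      { toFun := fun d => ⟨d.1 * u0, ?_, ?_⟩
        invFun := fun i => ⟨i.1 * u0, ?_, ?_⟩
        left_inv := fun d => Subtype.ext (by simp [mul_assoc, hu0u])
        right_inv := fun i => Subtype.ext (by simp [mul_assoc, hu0u]) }
    · refine orderOf_two_of_sq ?_ fun e => ?_
      · have e := hDinv hab hu0 hu0a d d.2
        rw [hu0'] at e
        rw [show (d : G) * u0 * (d * u0) = d * (u0 * d * u0) by group, e, mul_inv_cancel]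
      · have e' : (d : G) = u0 := by rw [eq_inv_of_mul_eq_one_left e, hu0']
        have := hDodd hab d d.2
        rw [e', hu0] at this
        exact absurd this (by decide)
    · show (d.1 * u0) • a = b
      rw [mul_smul, hu0a]; exact d.2.2
    · show (i.1 * u0) • a = a
      rw [mul_smul, hu0a, H50.smul_swap i.2.1 i.2.2]
    · show (i.1 * u0) • b = b
      rw [mul_smul, H50.smul_swap hu0 hu0a, i.2.2]
  haveI : Nontrivial (D a b) := Finite.one_lt_card_iff_nontrivial.1 (by omega)
  obtain ⟨⟨c, hc⟩, hc1'⟩ := exists_ne (1 : D a b)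
  have hc1 : c ≠ 1 := fun e => hc1' (Subtype.ext e)
  have hco := hDq hab c hc hc1
  have hcodd : Odd (orderOf c) := hco ▸ h.hq.odd_of_ne_two h.hq2
  have hinv' : ∀ {u : G} {w : G ⧸ M}, orderOf u = 2 → u • a = w → w ≠ a → c • w = w →
      u * c * u⁻¹ = c⁻¹ := fun hu hua hwa hcw => hDinv (Ne.symm hwa) hu hua c ⟨hc.1, hcw⟩
  set C := centralizer ({c} : Set G) with hC
  have hcC : ∀ {d : G}, d ∈ C → Commute d c := fun hd => mem_centralizer_singleton_iff.1 hd
  have hCp : IsPGroup q C := by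
    refine IsPGroup.iff_orderOf.2 fun ⟨d, hd⟩ => ?_
    rw [orderOf_mk]
    rcases eq_or_ne d 1 with rfl | hd1
    · exact ⟨0, by simp⟩
    rcases h.ord d hd1 with e | e | e | e
    · exact absurd (hcC hd) (h.not_commute hco (Or.inl e))
    · exact absurd (hcC hd) (h.not_commute hco (Or.inr e))
    · exact ⟨1, by rw [e, pow_one]⟩
    · refine absurd ((hcC hd).pow_left p) (h.not_commute hco (Or.inl ?_))
      rw [orderOf_pow' _ h.hp.ne_zero, e, Nat.gcd_mul_left_left, Nat.mul_div_cancel _ h.hp.pos]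
  have hu0c := hinv' hu0 hu0a (Ne.symm hab) hc.2
  have hu0n : ∀ d ∈ C, u0 * d * u0⁻¹ ∈ C := fun d hd => by
    refine mem_centralizer_singleton_iff.2 ?_
    have h1 := ((hcC hd).inv_right).map (MulAut.conj u0).toMonoidHom
    have e : u0 * c⁻¹ * u0⁻¹ = c := by rw [← conj_inv, hu0c, inv_inv]
    simp only [MulEquiv.coe_toMonoidHom, MulAut.conj_apply, e] at h1
    exact h1.eq
  have hinvC : ∀ d ∈ C, u0 * d * u0⁻¹ = d⁻¹ := fun d hd =>
    fpf_inverts hu0u hu0n (fun e he hcm => by
      by_contra he1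
      obtain ⟨i, hi⟩ := IsPGroup.iff_orderOf.1 hCp ⟨e, he⟩
      rw [orderOf_mk] at hi
      rcases h.ord e he1 with e' | e' | e' | e'
      · exact h.not_commute hco (Or.inl e') (hcC he)
      · exact h.not_commute hco (Or.inr e') (hcC he)
      · exact h.not_commute e' (Or.inl hu0) hcm
      · rw [e'] at hi
        exact h.hq2 ((Nat.prime_dvd_prime_iff_eq Nat.prime_two h.hq).1
          (Nat.prime_two.dvd_of_dvd_pow (hi ▸ dvd_mul_right 2 p))).symm) hd
  have hCmem : ∀ u : G, u * c * u⁻¹ = c⁻¹ → u0 * u ∈ C := fun u hu => by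
    refine mem_centralizer_singleton_iff.2 (mul_inv_eq_iff_eq_mul.1 ?_)
    rw [show u0 * u * c * (u0 * u)⁻¹ = u0 * (u * c * u⁻¹) * u0⁻¹ by group, hu, ← conj_inv, hu0c,
      inv_inv]
  let eI : {u : G // orderOf u = 2 ∧ u * c * u⁻¹ = c⁻¹} ≃ C :=
    { toFun := fun u => ⟨u0 * u.1, hCmem _ u.2.2⟩
      invFun := fun d => ⟨u0 * d, by
        refine ⟨orderOf_two_of_sq ?_ ?_, ?_⟩
        · have e := hinvC d d.2
          rw [hu0'] at e
          rw [show u0 * (d : G) * (u0 * d) = u0 * d * u0 * d by group, e, inv_mul_cancel]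
        · intro e
          have hd : (d : G) = u0 := (eq_inv_of_mul_eq_one_right e).trans hu0'
          exact h.not_commute hco (Or.inl hu0) (hd ▸ hcC d.2)
        · rw [show u0 * (d : G) * c * (u0 * d)⁻¹ = u0 * ((d : G) * c * (d : G)⁻¹) * u0⁻¹ by group,
            mul_inv_eq_iff_eq_mul.2 (hcC d.2).eq, hu0c]⟩
      left_inv := fun u => Subtype.ext (by
        show u0 * (u0 * u.1) = u.1
        rw [← mul_assoc, hu0u, one_mul])
      right_inv := fun d => Subtype.ext (by
        show u0 * (u0 * d) = (d : G)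
        rw [← mul_assoc, hu0u, one_mul]) }
  set m := Nat.card {w // c • w = w ∧ w ≠ a} with hm
  have hcount : Nat.card C = m * Nat.card {t : G // orderOf t = 2 ∧ t ∈ M} := by
    rw [← Nat.card_congr eI, hm]
    let g : {u : G // orderOf u = 2 ∧ u * c * u⁻¹ = c⁻¹} → {w // c • w = w ∧ w ≠ a} := fun u =>
      ⟨u.1 • a, by
        have e : c * u.1 = u.1 * c⁻¹ := by
          have := congrArg (·⁻¹) u.2.2
          simp only [mul_inv_rev, inv_inv] at this
          calc c * u.1 = (u.1 * (c⁻¹ * u.1⁻¹)) * u.1 := by rw [this]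
            _ = u.1 * c⁻¹ := by group
        rw [smul_smul, e, mul_smul, inv_smul_eq_iff.2 (show c • a = a from hc.1).symm],
        fun e => hc1 (eq_one_of_odd_pow_four (hnofix u.2.1 u.2.2 e hc.1) hcodd)⟩
    haveI := Fintype.ofFinite {w // c • w = w ∧ w ≠ a}
    rw [← Nat.card_congr (Equiv.sigmaFiberEquiv g), Nat.card_sigma,
      Nat.card_eq_fintype_card (α := {w // c • w = w ∧ w ≠ a})]
    rw [Finset.sum_congr rfl (fun w _ => ?_), Finset.sum_const, Finset.card_univ, smul_eq_mul]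
    rw [← H50.se_card_swap hM (Ne.symm w.2.2)]
    exact Nat.card_congr
      { toFun := fun u => ⟨u.1.1, u.1.2.1, congrArg Subtype.val u.2⟩
        invFun := fun i => ⟨⟨i.1, i.2.1, hinv' i.2.1 i.2.2 w.2.2 w.2.1⟩, Subtype.ext i.2.2⟩
        left_inv := fun u => rfl
        right_inv := fun i => rfl }
  obtain ⟨k, hk⟩ := IsPGroup.iff_card.1 hCp
  obtain ⟨j, -, hj⟩ := (Nat.dvd_prime_pow h.hq).1 (hk ▸ Dvd.intro _ hcount.symm : m ∣ q ^ k)
  -- the number of points
  have hΩ : ∀ r : ℕ, r.Prime → r ∣ Nat.card (G ⧸ M) → r = q := by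
    intro r hr hd
    rcases h.prime_mem hr (hd.trans M.index_dvd_card) with rfl | rfl | e
    · exact absurd (hd.trans (index_dvd_of_le hSM)) S.not_dvd_index
    · exfalso
      obtain ⟨P⟩ : Nonempty (Sylow r G) := inferInstance
      haveI : Nontrivial (P : Subgroup G) := by
        refine (nontrivial_iff_ne_bot _).2 fun e => ?_
        have h1 := P.dvd_card_of_dvd_card (hd.trans M.index_dvd_card)
        rw [e, Subgroup.card_bot, Nat.dvd_one] at h1
        exact hr.ne_one h1
      haveI := P.2.center_nontrivial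
      obtain ⟨z, hzc, hzo⟩ := H86.AllPrimePowerOrder.exists_orderOf_eq
        (P.2.to_subgroup (Subgroup.center (P : Subgroup G))) ((nontrivial_iff_ne_bot _).1 inferInstance)
      rw [← Subgroup.orderOf_coe] at hzo
      obtain ⟨s, hs, hsc⟩ := h.exists_involution hzo
      obtain ⟨w, hw⟩ := hfixed hs
      have hzw : (z : G) • w = w := H50.se_centralizer_fix hM hs hsc.symm hw
      have hPw : (P : Subgroup G) ≤ stabilizer G w := fun y hy => MulAction.mem_stabilizer_iff.2
        (hfix1 hzo (commute_of_smul_conj (G := G) (Ω := G ⧸ M) (c := (z : G)) (g := y)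
          (congrArg Subtype.val (mem_center_iff.1 hzc ⟨y, hy⟩)) hzw) hzw)
      have h3 : Nat.card (P : Subgroup G) * r ∣ Nat.card G := by
        rw [← M.card_mul_index]
        exact mul_dvd_mul ((Subgroup.card_dvd_of_le hPw).trans (hstab w).dvd) hd
      rw [P.card_eq_multiplicity, ← pow_succ, hr.pow_dvd_iff_le_factorization Nat.card_pos.ne'] at h3
      omega
    · exact e
  have hq1 : q ∣ Nat.card (G ⧸ M) := by
    obtain ⟨r, hr, hd⟩ := Nat.exists_prime_and_dvd (n := Nat.card (G ⧸ M)) fun e => hMne (index_eq_one.1 e)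
    exact hΩ r hr hd ▸ hd
  have hfp : q ∣ m + 1 := by
    have hz : IsPGroup q (zpowers c) := IsPGroup.of_card (n := 1)
      (by rw [Nat.card_zpowers, hco, pow_one])
    have h1 := hz.card_modEq_card_fixedPoints (G ⧸ M)
    have e : MulAction.fixedPoints (zpowers c) (G ⧸ M) = {w | c • w = w} := by
      ext w
      refine ⟨fun hw => hw ⟨c, mem_zpowers c⟩, fun hw => ?_⟩
      rintro ⟨d, hd⟩
      exact MulAction.mem_stabilizer_iff.1 (zpowers_le.2 (MulAction.mem_stabilizer_iff.2 hw) hd)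
    have h2 := Set.ncard_sdiff_singleton_add_one (show a ∈ {w : G ⧸ M | c • w = w} from hc.1)
      (Set.toFinite _)
    have e2 : {w : G ⧸ M | c • w = w} \ {a} = {w | c • w = w ∧ w ≠ a} := by ext w; simp
    rw [e2, ← Nat.card_coe_set_eq, ← Nat.card_coe_set_eq, ← e] at h2
    have h3 : Nat.card (MulAction.fixedPoints (zpowers c) (G ⧸ M)) = m + 1 := h2.symm
    rw [← h3]
    exact Nat.modEq_zero_iff_dvd.1 (h1.symm.trans (Nat.modEq_zero_iff_dvd.2 hq1))
  rw [hj] at hfp
  rcases j with _ | j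
  · exact h.hq2 ((Nat.prime_dvd_prime_iff_eq h.hq Nat.prime_two).1 hfp)
  · exact h.hq.ne_one (Nat.dvd_one.1 ((Nat.dvd_add_right (dvd_pow_self q j.succ_ne_zero)).1 hfp))

end Cfsg.Agent.H59.FiveOrbits
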