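import Cfsg.Agent.H59.PSLSeven.Elementary
import Cfsg.Agent.H59.PSLSeven.NonSimple
import Cfsg.Agent.H19.Fitting
import Cfsg.Agent.H24.PGroupBasic
import Cfsg.Agent.H25.Burnside

/-!
# Five automorphism orbits: the configuration with an element of order `2p`
-/

set_option autoImplicit false
set_option linter.style.haveILetI false
set_option linter.unusedSectionVars false

namespace Cfsg.Agent.H59.FiveOrbits

open Subgroup PSLSeven

local instance factTwoSetting : Fact (Nat.Prime 2) := ⟨Nat.prime_two⟩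

/-- The element orders are `1, 2, p, q, 2p`, each filled by one orbit of automorphisms. -/
structure TwoP (G : Type*) [Group G] (p q : ℕ) : Prop where
  hp : p.Prime
  hq : q.Prime
  hp2 : p ≠ 2
  hq2 : q ≠ 2
  hpq : p ≠ q
  ord : ∀ g : G, g ≠ 1 → orderOf g = 2 ∨ orderOf g = p ∨ orderOf g = q ∨ orderOf g = 2 * p
  orb : ∀ g h : G, orderOf g = orderOf h → ∃ α : MulAut G, α g = h
  hx : ∃ g : G, orderOf g = 2 * p

variable {G : Type*} [Group G] [Finite G] {p q : ℕ}

theorem not_four_dvd_two_mul {p : ℕ} (hp : p.Prime) (hp2 : p ≠ 2) : ¬ 4 ∣ 2 * p := by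
  have h := Nat.odd_iff.1 (hp.odd_of_ne_two hp2)
  omega

namespace TwoP

variable (h : TwoP G p q)
include h

theorem sq_of_mem {S : Subgroup G} (hS : IsPGroup 2 S) {x : G} (hx : x ∈ S) : x * x = 1 := by
  rcases eq_or_ne x 1 with rfl | h1
  · exact one_mul 1
  obtain ⟨k, hk⟩ := IsPGroup.iff_orderOf.1 hS ⟨x, hx⟩
  rw [orderOf_mk] at hk
  rcases h.ord x h1 with e | e | e | e
  · exact (sq_of_orderOf_two e).1
  · rw [e] at hk
    exact absurd ((Nat.prime_dvd_prime_iff_eq h.hp Nat.prime_two).1 (h.hp.dvd_of_dvd_pow hk.dvd)) h.hp2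
  · rw [e] at hk
    exact absurd ((Nat.prime_dvd_prime_iff_eq h.hq Nat.prime_two).1 (h.hq.dvd_of_dvd_pow hk.dvd)) h.hq2
  · rw [e] at hk
    exact absurd ((Nat.prime_dvd_prime_iff_eq h.hp Nat.prime_two).1
      (h.hp.dvd_of_dvd_pow ((Dvd.intro_left 2 rfl : p ∣ 2 * p).trans hk.dvd))) h.hp2

theorem ea {S : Subgroup G} (hS : IsPGroup 2 S) : EA S := fun _ hx => h.sq_of_mem hS hx

theorem prime_mem {r : ℕ} (hr : r.Prime) (hd : r ∣ Nat.card G) : r = 2 ∨ r = p ∨ r = q := by
  haveI := Fact.mk hr
  obtain ⟨g, hg⟩ := exists_prime_orderOf_dvd_card' r hd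
  rcases h.ord g (fun e => by rw [e, orderOf_one] at hg; exact hr.ne_one hg.symm) with e | e | e | e
  all_goals rw [hg] at e
  · exact Or.inl e
  · exact Or.inr (Or.inl e)
  · exact Or.inr (Or.inr e)
  · exact absurd (e ▸ hr) (Nat.not_prime_mul (by norm_num) h.hp.ne_one)

/-- No element order has both primes `p` and `q`, or both `2` and `q`. -/
theorem not_mul_dvd {g : G} : ¬ p * q ∣ orderOf g ∧ ¬ 2 * q ∣ orderOf g := by
  have h2 := h.hp.two_le
  have h3 := h.hq.two_le
  rcases eq_or_ne g 1 with rfl | h1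
  · rw [orderOf_one]
    exact ⟨fun hd => by have := Nat.le_of_dvd one_pos hd; nlinarith,
      fun hd => by have := Nat.le_of_dvd one_pos hd; omega⟩
  have key : ∀ {a b : ℕ}, a.Prime → b.Prime → a ∣ b → a = b := fun ha hb hd =>
    (Nat.prime_dvd_prime_iff_eq ha hb).1 hd
  rcases h.ord g h1 with e | e | e | e <;> rw [e] <;> constructor <;> intro hd
  · exact h.hp2 (key h.hp Nat.prime_two ((dvd_mul_right p q).trans hd))
  · exact h.hq2 (key h.hq Nat.prime_two ((dvd_mul_left q 2).trans hd))
  · exact h.hpq (key h.hq h.hp ((dvd_mul_left q p).trans hd)).symm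
  · exact h.hpq (key h.hq h.hp ((dvd_mul_left q 2).trans hd)).symm
  · exact h.hpq (key h.hp h.hq ((dvd_mul_right p q).trans hd))
  · exact h.hq2 (key Nat.prime_two h.hq ((dvd_mul_right 2 q).trans hd)).symm
  · rcases h.hq.dvd_mul.1 ((dvd_mul_left q p).trans hd) with e' | e'
    · exact h.hq2 (key h.hq Nat.prime_two e')
    · exact h.hpq (key h.hq h.hp e').symm
  · rcases h.hq.dvd_mul.1 ((dvd_mul_left q 2).trans hd) with e' | e'
    · exact h.hq2 (key h.hq Nat.prime_two e')
    · exact h.hpq (key h.hq h.hp e').symm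

theorem not_commute {a b : G} (hb : orderOf b = q) (ha : orderOf a = 2 ∨ orderOf a = p) :
    ¬ Commute a b := by
  intro hc
  have hcop : (orderOf a).Coprime (orderOf b) := by
    rw [hb]
    rcases ha with e | e <;> rw [e]
    · exact (Nat.coprime_primes Nat.prime_two h.hq).2 (Ne.symm h.hq2)
    · exact (Nat.coprime_primes h.hp h.hq).2 h.hpq
  have ho := hc.orderOf_mul_eq_mul_orderOf_of_coprime hcop
  rcases ha with e | e
  · exact (h.not_mul_dvd (g := a * b)).2 (by rw [ho, e, hb])
  · exact (h.not_mul_dvd (g := a * b)).1 (by rw [ho, e, hb])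

/-- Elements of odd order centralising an element of order two or `p` have order `p`. -/
theorem orderOf_eq_p {a b : G} (ha : orderOf a = 2 ∨ orderOf a = p) (hc : Commute a b)
    (hb : Odd (orderOf b)) (hb1 : b ≠ 1) : orderOf b = p := by
  rcases h.ord b hb1 with e | e | e | e
  · rw [e] at hb; exact absurd hb (by decide)
  · exact e
  · exact absurd hc (h.not_commute e ha)
  · rw [e] at hb; exact absurd hb (by simp)

/-- Every element of order `p` centralises an involution. -/
theorem exists_involution {x : G} (hx : orderOf x = p) : ∃ t : G, orderOf t = 2 ∧ Commute t x := by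
  obtain ⟨g, hg⟩ := h.hx
  have hgo : orderOf (g ^ 2) = p := by
    rw [orderOf_pow' _ two_ne_zero, hg, Nat.gcd_mul_right_left, Nat.mul_div_cancel_left _ two_pos]
  obtain ⟨α, hα⟩ := h.orb (g ^ 2) x (hgo.trans hx.symm)
  refine ⟨α (g ^ p), ?_, ?_⟩
  · rw [MulEquiv.orderOf_eq, orderOf_pow' _ h.hp.ne_zero, hg, Nat.gcd_mul_left_left,
      Nat.mul_div_cancel _ h.hp.pos]
  · rw [← hα]
    exact ((Commute.refl g).pow_pow p 2).map α.toMonoidHom

theorem isSolvable_centralizer {t : G} (ht : orderOf t = 2) :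
    Group.IsSolvable (centralizer ({t} : Set G)) := by
  set C := centralizer ({t} : Set G) with hC
  refine H25.isSolvable_of_card_eq_mul_pow (a := (Nat.card C).factorization 2)
    (b := (Nat.card C / 2 ^ (Nat.card C).factorization 2).primeFactorsList.length)
    Nat.prime_two h.hp ?_
  conv_lhs => rw [← Nat.ordProj_mul_ordCompl_eq_self (Nat.card C) 2]
  congr 1
  refine Nat.eq_prime_pow_of_unique_prime_dvd (Nat.ordCompl_pos 2 Nat.card_pos.ne').ne' ?_
  intro r hr hd
  haveI := Fact.mk hr
  have hr2 : r ≠ 2 := fun e => Nat.not_dvd_ordCompl Nat.prime_two Nat.card_pos.ne' (e ▸ hd)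
  obtain ⟨⟨b, hb⟩, hbo⟩ := exists_prime_orderOf_dvd_card' r (hd.trans (Nat.ordCompl_dvd _ 2))
  rw [orderOf_mk] at hbo
  have := h.orderOf_eq_p (Or.inl ht) (mem_centralizer_singleton_iff.1 hb).symm
    (by rw [hbo]; exact hr.odd_of_ne_two hr2) (fun e => by rw [e, orderOf_one] at hbo; exact hr.ne_one hbo.symm)
  omega

/-- The odd core of an involution centraliser. -/
theorem core_isPGroup {t : G} (ht : orderOf t = 2) :
    IsPGroup p ((Cfsg.pPrimeCore 2 (centralizer ({t} : Set G))).map
      (centralizer ({t} : Set G)).subtype : Subgroup G) := by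
  haveI := Fact.mk h.hp
  rintro ⟨x, y, hy, rfl⟩
  rcases eq_or_ne (y : G) 1 with e | e
  · exact ⟨0, Subtype.ext (by simpa using e)⟩
  have hodd : Odd (orderOf (y : G)) := by
    have hd : orderOf y ∣ Nat.card (Cfsg.pPrimeCore 2 (centralizer ({t} : Set G))) :=
      (Subgroup.orderOf_mk y hy) ▸ orderOf_dvd_natCard _
    rw [Subgroup.orderOf_coe]
    exact (Nat.coprime_two_right.1 (H19.pPrimeCore_coprime 2)).of_dvd_nat hd
  refine ⟨1, Subtype.ext ?_⟩
  rw [pow_one, SubmonoidClass.coe_pow]
  show (y : G) ^ p = 1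
  rw [← h.orderOf_eq_p (Or.inl ht) (mem_centralizer_singleton_iff.1 y.2).symm hodd e,
    pow_orderOf_eq_one]

/-- All elements of order `p` in an involution centraliser are conjugate under its automorphisms. -/
theorem exists_aut_fix {t x x' : G} (ht : orderOf t = 2) (hx : orderOf x = p) (hx' : orderOf x' = p)
    (hc : Commute t x) (hc' : Commute t x') : ∃ α : MulAut G, α t = t ∧ α x = x' := by
  have hcop : (orderOf t).Coprime p := by
    rw [ht]; exact (Nat.coprime_primes Nat.prime_two h.hp).2 (Ne.symm h.hp2)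
  obtain ⟨α, hα⟩ := h.orb (t * x) (t * x') (by
    rw [hc.orderOf_mul_eq_mul_orderOf_of_coprime (hx ▸ hcop),
      hc'.orderOf_mul_eq_mul_orderOf_of_coprime (hx' ▸ hcop), hx, hx'])
  obtain ⟨m, hm⟩ : ∃ m, p = 2 * m + 1 := h.hp.odd_of_ne_two h.hp2
  have htp : t ^ p = t := by
    rw [hm, pow_add, pow_mul, pow_one, pow_two, (sq_of_orderOf_two ht).1, one_pow, one_mul]
  have hxp : ∀ {y : G}, orderOf y = p → y ^ p = 1 := fun hy => hy ▸ pow_orderOf_eq_one _
  have hαt : α t = t := by
    have := congrArg (· ^ p) hα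
    simp only [← map_pow, hc.mul_pow, hc'.mul_pow, htp, hxp hx, hxp hx', mul_one] at this
    exact this
  refine ⟨α, hαt, ?_⟩
  rw [map_mul, hαt] at hα
  exact mul_left_cancel hα

end TwoP

/-- An automorphism carries the odd core of an involution centraliser along. -/
theorem map_core_le {t : G} (α : MulAut G) :
    ((Cfsg.pPrimeCore 2 (centralizer ({t} : Set G))).map (centralizer ({t} : Set G)).subtype).map
      α.toMonoidHom ≤
      (Cfsg.pPrimeCore 2 (centralizer ({α t} : Set G))).map (centralizer ({α t} : Set G)).subtype := by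
  set C := centralizer ({t} : Set G)
  set C' := centralizer ({α t} : Set G)
  let f : C →* C' :=
    { toFun := fun c => ⟨α c, mem_centralizer_singleton_iff.2
        (by rw [← map_mul, ← map_mul, mem_centralizer_singleton_iff.1 c.2])⟩
      map_one' := Subtype.ext (map_one α)
      map_mul' := fun a b => Subtype.ext (map_mul α (a : G) (b : G)) }
  have hf : Function.Surjective f := fun c => ⟨⟨α.symm c, mem_centralizer_singleton_iff.2 (α.injective
      (by rw [map_mul, map_mul, MulEquiv.apply_symm_apply, mem_centralizer_singleton_iff.1 c.2]))⟩,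
    Subtype.ext (α.apply_symm_apply (c : G))⟩
  have hle : (Cfsg.pPrimeCore 2 C).map f ≤ Cfsg.pPrimeCore 2 C' :=
    H19.le_pPrimeCore ((H19.pPrimeCore_normal 2 C).map f hf)
      ((H19.pPrimeCore_coprime 2).coprime_dvd_left (Subgroup.card_map_dvd _ _))
  rintro _ ⟨_, ⟨y, hy, rfl⟩, rfl⟩
  exact ⟨f y, hle ⟨y, hy, rfl⟩, rfl⟩

theorem card_core_le {t t' : G} (α : MulAut G) (h : α t = t') :
    Nat.card ((Cfsg.pPrimeCore 2 (centralizer ({t} : Set G))).map (centralizer ({t} : Set G)).subtype : Subgroup G) ≤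
    Nat.card ((Cfsg.pPrimeCore 2 (centralizer ({t'} : Set G))).map (centralizer ({t'} : Set G)).subtype : Subgroup G) := by
  subst h
  refine le_trans (le_of_eq ?_) (Subgroup.card_le_of_le (map_core_le α))
  exact Nat.card_congr (Subgroup.equivMapOfInjective _ α.toMonoidHom α.injective).toEquiv

/-- Equal two parts of the centralisers of two elements in one orbit. -/
theorem card_centralizer_map (α : MulAut G) (x : G) :
    Nat.card (centralizer ({α x} : Set G)) = Nat.card (centralizer ({x} : Set G)) :=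
  (Nat.card_congr (α.toEquiv.subtypeEquiv fun c => by
    simp only [mem_centralizer_singleton_iff, MulEquiv.toEquiv_eq_coe, MulEquiv.coe_toEquiv,
      ← map_mul, α.injective.eq_iff])).symm

end Cfsg.Agent.H59.FiveOrbits
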